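import Mathlib
import Cfsg.Agent.Lib.ClassSizes.CopTools

/-!
# Groups with the class sizes of `PSL₂(q)`: the order of the central quotient

* `SizeAxioms` : the arithmetical properties of the set of class sizes of `PSL₂(q)` that are used;
* `Hyp.index_center` : the central quotient has order `q * U`;
* `Hyp.card_centralizer_quotient` : in the central quotient the centralizer of a nontrivial
  `p`-element has order `q`.
-/

set_option autoImplicit false
set_option linter.unusedSectionVars false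

namespace Cfsg.Agent.Lib.PSLClassSize64

open Cfsg.Agent.Lib.ClassSizes.Basic Cfsg.Agent.Lib.ClassSizes.CopTools

/-- What is used of the class sizes: `U` is the size of the unipotent classes and `N` one of the
sizes divisible by `q` that neither divides nor is divided by another one. -/
structure SizeAxioms (S : Set ℕ) (p q U N : ℕ) : Prop where
  pp : p.Prime
  hq : ∃ f : ℕ, 0 < f ∧ q = p ^ f
  U_mem : U ∈ S
  U_ne : U ≠ 1
  U_cop : ¬ p ∣ U
  q_dvd : ∀ s ∈ S, s ≠ 1 → s ≠ U → q ∣ s ∧ ¬ p * q ∣ s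
  U_max : ∀ s ∈ S, U ∣ s → s = U
  avoid : ∀ r : ℕ, r.Prime → r ≠ p → ∃ s ∈ S, s ≠ 1 ∧ s ≠ U ∧ ¬ r ∣ s
  N_mem : N ∈ S
  N_ne : N ≠ 1 ∧ N ≠ U
  N_min : ∀ s ∈ S, s ∣ N → s = 1 ∨ s = N
  N_max : ∀ s ∈ S, N ∣ s → s = N
  avoidN : ∃ r : ℕ, r.Prime ∧ r ≠ p ∧ ¬ r ∣ N ∧ r ∣ U

variable {G : Type*} [Group G]

/-- A group with such class sizes. -/
structure Hyp (G : Type*) [Group G] (S : Set ℕ) (p q U N : ℕ) : Prop where
  ax : SizeAxioms S p q U N
  sizes : ∀ x : G, idx x ∈ S
  surj : ∀ s ∈ S, ∃ x : G, idx x = s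

theorem idx_eq_one {x : G} : idx x = 1 ↔ x ∈ Subgroup.center G := by
  rw [idx, Subgroup.index_eq_one, cen_eq_top_iff]

theorem idx_conj (g x : G) : idx (g * x * g⁻¹) = idx x := by
  have h : cen (g * x * g⁻¹) = (cen x).comap (MulAut.conj g⁻¹).toMonoidHom := by
    ext y
    rw [Subgroup.mem_comap]
    simpa using mem_cen_conj (g := g) (x := x) (y := y)
  rw [idx, idx, h, Subgroup.index_comap_of_surjective _ (MulAut.conj g⁻¹).surjective]

theorem idx_dvd_of_le {x y : G} (h : cen x ≤ cen y) : idx y ∣ idx x := Subgroup.index_dvd_of_le h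

variable [Finite G]

theorem idx_ne_zero (x : G) : idx x ≠ 0 := Subgroup.index_ne_zero_of_finite

theorem cen_eq_of_le_idx {x y : G} (h : cen x ≤ cen y) (he : idx y = idx x) : cen x = cen y := by
  refine le_antisymm h fun z hz => ?_
  have h1 := Subgroup.relIndex_mul_index h
  rw [show (cen y).index = (cen x).index from he] at h1
  have h2 : (cen x).relIndex (cen y) = 1 :=
    Nat.eq_of_mul_eq_mul_right (Nat.pos_of_ne_zero (idx_ne_zero x)) (h1.trans (one_mul _).symm)
  exact Subgroup.relIndex_eq_one.mp h2 hz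

theorem cen_inf_of_coprime {a b : G} (hc : Commute a b) (h : (orderOf a).Coprime (orderOf b)) :
    cen (a * b) ≤ cen a ∧ cen (a * b) ≤ cen b := by
  rw [cen, cen_mul_eq hc h]
  exact ⟨inf_le_left, inf_le_right⟩

/-- A `p`-element and an element of order prime to `p` have coprime orders. -/
theorem coprime_of_pel {p : ℕ} (hp : p.Prime) {a b : G} (ha : IsPEl p a)
    (hb : (orderOf b).Coprime p) : (orderOf a).Coprime (orderOf b) :=
  ha.coprime hp hb.symm

variable {S : Set ℕ} {p q U N : ℕ}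

theorem Hyp.q_pos (H : Hyp G S p q U N) : 0 < q := by
  obtain ⟨f, -, rfl⟩ := H.ax.hq
  exact pow_pos H.ax.pp.pos f

theorem Hyp.p_dvd_q (H : Hyp G S p q U N) : p ∣ q := by
  obtain ⟨f, hf, rfl⟩ := H.ax.hq
  exact dvd_pow_self p hf.ne'

/-- A class size dividing `U` is `1` or `U`. -/
theorem Hyp.eq_U_of_dvd (H : Hyp G S p q U N) {x : G} (h : idx x ∣ U)
    (hx : x ∉ Subgroup.center G) : idx x = U := by
  by_contra hne
  exact H.ax.U_cop
    ((H.p_dvd_q.trans (H.ax.q_dvd _ (H.sizes x) (fun e => hx (idx_eq_one.mp e)) hne).1).trans h)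

/-- The class size of a noncentral element not of size `U` is divisible by `p`. -/
theorem Hyp.p_dvd_idx (H : Hyp G S p q U N) {x : G} (hx : x ∉ Subgroup.center G)
    (h : idx x ≠ U) : p ∣ idx x :=
  H.p_dvd_q.trans (H.ax.q_dvd _ (H.sizes x) (fun e => hx (idx_eq_one.mp e)) h).1

theorem Hyp.notMem_of_idx (H : Hyp G S p q U N) {x : G} (h : idx x = U) :
    x ∉ Subgroup.center G := fun hx => H.ax.U_ne (h ▸ idx_eq_one.mpr hx)

/-- A class of size `U` absorbs every commuting noncentral element of coprime order. -/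
theorem Hyp.cen_eq_of_coprime (H : Hyp G S p q U N) {x y : G} (hx : idx x = U)
    (hy : y ∈ cen x) (hyc : y ∉ Subgroup.center G) (hcop : (orderOf x).Coprime (orderOf y)) :
    idx y = U ∧ cen x = cen y := by
  obtain ⟨h1, h2⟩ := cen_inf_of_coprime (mem_cen.mp hy : Commute x y) hcop
  have hxy : idx (x * y) = U := H.ax.U_max _ (H.sizes _) (hx ▸ idx_dvd_of_le h1)
  have he : cen (x * y) = cen x := cen_eq_of_le_idx h1 (hx.trans hxy.symm)
  rw [he] at h2
  have hyU : idx y = U := H.eq_U_of_dvd (hx ▸ idx_dvd_of_le h2) hyc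
  exact ⟨hyU, cen_eq_of_le_idx h2 (hyU.trans hx.symm)⟩

/-- A noncentral element of the centraliser has a noncentral primary power there. -/
theorem Hyp.exists_primary_U (H : Hyp G S p q U N) {x : G} (hx : idx x = U) :
    ∃ (s : ℕ) (u : G), s.Prime ∧ IsPEl s u ∧ idx u = U ∧ cen u = cen x := by
  obtain ⟨s, u, hs, hu, huZ, hus⟩ := exists_primary_notMem (H.notMem_of_idx hx)
  have hle := cen_le_of_mem_zpowers hu
  have huU : idx u = U := H.eq_U_of_dvd (hx ▸ idx_dvd_of_le hle) huZ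
  exact ⟨s, u, hs, hus, huU, (cen_eq_of_le_idx hle (huU.trans hx.symm)).symm⟩

/-- A Sylow subgroup for a prime dividing a class size is noncentral. -/
theorem exists_noncentral_of_dvd {r : ℕ} [Fact r.Prime] (R : Sylow r G) {x : G} (h : r ∣ idx x) :
    ∃ b ∈ (R : Subgroup G), b ∉ Subgroup.center G :=
  SetLike.not_le_iff_exists.mp ((exists_dvd_iff R).mp ⟨x, h⟩)

/-- The centraliser of an element of class size `U` is a `p`-group over the center. -/
theorem Hyp.center_of_coprime (H : Hyp G S p q U N) {x g : G} (hx : idx x = U) (hg : g ∈ cen x)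
    (hgp : (orderOf g).Coprime p) : g ∈ Subgroup.center G := by
  by_contra hgZ
  have hp := H.ax.pp
  have := Fact.mk hp
  obtain ⟨r, b, hr, hb, hbZ, hbr⟩ := exists_primary_notMem hgZ
  have hbC : b ∈ cen x := mem_of_mem_zpowers hb hg
  have hbp : (orderOf b).Coprime p :=
    Nat.Coprime.coprime_dvd_left (orderOf_dvd_of_mem_zpowers hb) hgp
  have hrp : r ≠ p := by
    rintro rfl
    obtain ⟨k, hk⟩ := hbr
    refine hbZ ?_
    have h1 : orderOf b = 1 := Nat.eq_one_of_dvd_coprimes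
      (Nat.Coprime.pow_right k hbp) dvd_rfl (orderOf_dvd_of_pow_eq_one hk)
    rw [orderOf_eq_one_iff.mp h1]
    exact Subgroup.one_mem _
  -- a `p`-element and a `p'`-element with this centraliser
  obtain ⟨s, u, hs, hus, huU, huC⟩ := H.exists_primary_U hx
  obtain ⟨w, w', hwp, hwU, hwC, hw'p, hw'U, hw'C⟩ : ∃ w w' : G, IsPEl p w ∧ idx w = U ∧
      cen w = cen x ∧ (orderOf w').Coprime p ∧ idx w' = U ∧ cen w' = cen x := by
    by_cases hsp : s = p
    · subst hsp
      obtain ⟨h1, h2⟩ := H.cen_eq_of_coprime huU (huC ▸ hbC) hbZ (coprime_of_pel hp hus hbp)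
      exact ⟨u, b, hus, huU, huC, hbp, h1, h2.symm.trans huC⟩
    · have hnd : ¬ p ∣ (cen u).index := by rw [show (cen u).index = U from huU]; exact H.ax.U_cop
      obtain ⟨P, hP⟩ := exists_sylow_le hnd
      obtain ⟨s₀, hs₀, hs1, hsU, -⟩ := H.ax.avoid s hs hsp
      obtain ⟨y, hy⟩ := H.surj s₀ hs₀
      obtain ⟨w, hwP, hwZ⟩ := exists_noncentral_of_dvd P (x := y)
        (hy ▸ H.p_dvd_q.trans (H.ax.q_dvd _ hs₀ hs1 hsU).1)
      have hwp := isPEl_of_mem P.2 hwP
      have hup : (orderOf u).Coprime p :=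
        hus.coprime hs ((Nat.coprime_primes hs hp).mpr hsp)
      obtain ⟨h1, h2⟩ := H.cen_eq_of_coprime huU (hP hwP) hwZ (coprime_of_pel hp hwp hup).symm
      exact ⟨w, u, hwp, h1, h2.symm.trans huC, hup, huU, huC⟩
  -- hence it is abelian
  have habel : ∀ a ∈ cen x, ∀ c ∈ cen x, a * c = c * a := by
    intro a ha c hc
    obtain ⟨a1, a2, ha1, ha2, hae, hap, hacop⟩ := Lib.Elem70.exists_primary_split hp a
    have key : ∀ d ∈ cen x, d ∉ Subgroup.center G → (IsPEl p d ∨ (orderOf d).Coprime p) →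
        cen x ≤ cen d := by
      intro d hd hdZ hcase
      rcases hcase with hdp | hdp
      · obtain ⟨-, h⟩ := H.cen_eq_of_coprime hw'U (hw'C ▸ hd) hdZ
          (coprime_of_pel hp hdp hw'p).symm
        exact (hw'C.symm.trans h).le
      · obtain ⟨-, h⟩ := H.cen_eq_of_coprime hwU (hwC ▸ hd) hdZ (coprime_of_pel hp hwp hdp)
        exact (hwC.symm.trans h).le
    have hc' : ∀ d ∈ cen x, (IsPEl p d ∨ (orderOf d).Coprime p) → Commute d c := by
      intro d hd hcase
      by_cases hdZ : d ∈ Subgroup.center G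
      · exact (Subgroup.mem_center_iff.mp hdZ c).symm
      · exact mem_cen.mp (key d hd hdZ hcase hc)
    have h1 := hc' a1 (mem_of_mem_zpowers ha1 ha) (Or.inl hap)
    have h2 := hc' a2 (mem_of_mem_zpowers ha2 ha) (Or.inr hacop)
    rw [hae]
    exact (h1.mul_left h2).eq
  -- but some class size prime to `r` is divisible by `q`
  have := Fact.mk hr
  obtain ⟨s₀, hs₀, hs1, hsU, hrs⟩ := H.ax.avoid r hr hrp
  obtain ⟨y, hy⟩ := H.surj s₀ hs₀
  obtain ⟨R, hR⟩ := exists_sylow_le (show ¬ r ∣ (cen y).index by rw [show (cen y).index = s₀ from hy]; exact hrs)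
  obtain ⟨R', hR'⟩ := (hbr.isPGroup hr).exists_le_sylow
  obtain ⟨c, hc⟩ := MulAction.exists_smul_eq G R' R
  have hbR : c * b * c⁻¹ ∈ (R : Subgroup G) := by
    rw [← hc, Sylow.coe_subgroup_smul]
    exact Subgroup.smul_mem_pointwise_smul b (MulAut.conj c) _
      (hR' (Subgroup.mem_zpowers b))
  have hy' : c⁻¹ * y * c ∈ cen b := mem_cen_conj.mp (mem_cen_comm.mp (hR hbR))
  have hbU : idx b = U ∧ cen b = cen x := by
    obtain ⟨h1, h2⟩ := H.cen_eq_of_coprime hwU (hwC ▸ hbC) hbZ (coprime_of_pel hp hwp hbp)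
    exact ⟨h1, h2.symm.trans hwC⟩
  rw [hbU.2] at hy'
  have hle : cen x ≤ cen (c⁻¹ * y * c) := fun a ha => mem_cen.mpr (habel _ hy' _ ha)
  have hiy : idx (c⁻¹ * y * c) = s₀ := by
    rw [← hy]; simpa using idx_conj c⁻¹ y
  have hd := idx_dvd_of_le hle
  rw [hiy, hx] at hd
  exact H.ax.U_cop ((H.p_dvd_q.trans (H.ax.q_dvd _ hs₀ hs1 hsU).1).trans hd)

/-- There is an element of order prime to `p` with class size `N`. -/
theorem Hyp.exists_N_coprime (H : Hyp G S p q U N) :
    ∃ y : G, idx y = N ∧ (orderOf y).Coprime p := by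
  have hp := H.ax.pp
  obtain ⟨n, hn⟩ := H.surj N H.ax.N_mem
  obtain ⟨a1, a2, ha1, ha2, hae, hap, hacop⟩ := Lib.Elem70.exists_primary_split hp n
  have hmin : ∀ d : G, cen n ≤ cen d → d ∉ Subgroup.center G → idx d = N := fun d hle hd =>
    ((H.ax.N_min _ (H.sizes d) (hn ▸ idx_dvd_of_le hle)).resolve_left
      fun e => hd (idx_eq_one.mp e))
  by_cases ha2Z : a2 ∈ Subgroup.center G
  · obtain ⟨r, hr, hrp, hrN, hrU⟩ := H.ax.avoidN
    have := Fact.mk hr
    obtain ⟨R, hR⟩ := exists_sylow_le (show ¬ r ∣ (cen n).index by rw [show (cen n).index = N from hn]; exact hrN)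
    obtain ⟨x, hx⟩ := H.surj U H.ax.U_mem
    obtain ⟨b, hbR, hbZ⟩ := exists_noncentral_of_dvd R (x := x) (hx ▸ hrU)
    have hbr := isPEl_of_mem R.2 hbR
    have hbp : (orderOf b).Coprime p := hbr.coprime hr ((Nat.coprime_primes hr hp).mpr hrp)
    have he : cen n = cen a1 := by rw [hae]; exact cen_mul_center ha2Z
    have hbC : b ∈ cen a1 := he ▸ hR hbR
    have ha1N : idx a1 = N := by rw [idx, ← he]; exact hn
    obtain ⟨h1, h2⟩ := cen_inf_of_coprime (mem_cen.mp hbC : Commute a1 b)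
      (coprime_of_pel hp hap hbp)
    have hab : idx (a1 * b) = N := H.ax.N_max _ (H.sizes _) (ha1N ▸ idx_dvd_of_le h1)
    have hle : cen n ≤ cen b := by
      rw [he, ← cen_eq_of_le_idx h1 (ha1N.trans hab.symm)]
      exact h2
    exact ⟨b, hmin b hle hbZ, hbp⟩
  · exact ⟨a2, hmin a2 (cen_le_of_mem_zpowers ha2) ha2Z, hacop⟩

/-- A `p`-element and an element of size `U` centralised by its Sylow subgroup commute. -/
theorem Hyp.exists_U_commute (H : Hyp G S p q U N) {w : G} (hw : IsPEl p w) :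
    ∃ x : G, idx x = U ∧ w ∈ cen x := by
  have := Fact.mk H.ax.pp
  obtain ⟨x, hx⟩ := H.surj U H.ax.U_mem
  obtain ⟨P, hP⟩ := exists_sylow_le (show ¬ p ∣ (cen x).index by rw [show (cen x).index = U from hx]; exact H.ax.U_cop)
  obtain ⟨P', hP'⟩ := (hw.isPGroup H.ax.pp).exists_le_sylow
  obtain ⟨c, hc⟩ := MulAction.exists_smul_eq G P' P
  refine ⟨c⁻¹ * x * c, ?_, ?_⟩
  · rw [← hx]; simpa using idx_conj c⁻¹ x
  · have h1 : c * w * c⁻¹ ∈ cen x := hP (by
      rw [← hc, Sylow.coe_subgroup_smul]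
      exact Subgroup.smul_mem_pointwise_smul w (MulAut.conj c) _ (hP' (Subgroup.mem_zpowers w)))
    exact mem_cen_comm.mp (mem_cen_conj.mp (mem_cen_comm.mp h1))

/-- The centraliser of an element of size `N` and order prime to `p` is a `p'`-group over the
center. -/
theorem Hyp.center_of_pel (H : Hyp G S p q U N) {y w : G} (hy : idx y = N)
    (hyp : (orderOf y).Coprime p) (hw : w ∈ cen y) (hwp : IsPEl p w) :
    w ∈ Subgroup.center G := by
  by_contra hwZ
  have hp := H.ax.pp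
  obtain ⟨h1, h2⟩ := cen_inf_of_coprime (mem_cen.mp hw : Commute y w)
    (coprime_of_pel hp hwp hyp).symm
  have hyw : idx (y * w) = N := H.ax.N_max _ (H.sizes _) (hy ▸ idx_dvd_of_le h1)
  have hle : cen y ≤ cen w := by
    rw [← cen_eq_of_le_idx h1 (hy.trans hyw.symm)]; exact h2
  have hwN : idx w = N := (H.ax.N_min _ (H.sizes w) (hy ▸ idx_dvd_of_le hle)).resolve_left
    fun e => hwZ (idx_eq_one.mp e)
  have he := cen_eq_of_le_idx hle (hwN.trans hy.symm)
  obtain ⟨x, hx, hwx⟩ := H.exists_U_commute hwp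
  have hxy : x ∈ cen y := he ▸ mem_cen_comm.mp hwx
  have hyZ := H.center_of_coprime hx (mem_cen_comm.mp hxy) hyp
  exact H.ax.N_ne.1 (hy ▸ idx_eq_one.mpr hyZ)

/-- The index of the center in a centraliser. -/
noncomputable abbrev relC (x : G) : ℕ := (Subgroup.center G).relIndex (cen x)

theorem relC_mul_idx (x : G) : relC x * idx x = (Subgroup.center G).index :=
  Subgroup.relIndex_mul_index (center_le_cen x)

/-- A prime divisor of `relC x` gives a noncentral element of that prime power order. -/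
theorem exists_of_dvd_relC {r : ℕ} (hr : r.Prime) {x : G} (h : r ∣ relC x) :
    ∃ b ∈ cen x, IsPEl r b ∧ b ∉ Subgroup.center G := by
  have := Fact.mk hr
  obtain ⟨R⟩ : Nonempty (Sylow r (cen x)) := inferInstance
  by_contra hcon
  push Not at hcon
  have hle : (R : Subgroup (cen x)) ≤ (Subgroup.center G).subgroupOf (cen x) := fun b hb =>
    Subgroup.mem_subgroupOf.mpr (hcon b b.2 (by
      obtain ⟨k, hk⟩ := isPEl_of_mem R.2 hb
      exact ⟨k, by simpa using congrArg Subtype.val hk⟩))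
  exact R.not_dvd_index (h.trans (Subgroup.index_dvd_of_le hle))

theorem Hyp.relC_U (H : Hyp G S p q U N) {x : G} (hx : idx x = U) :
    ∀ r : ℕ, r.Prime → r ∣ relC x → r = p := by
  intro r hr hd
  by_contra hne
  obtain ⟨b, hb, hbr, hbZ⟩ := exists_of_dvd_relC hr hd
  exact hbZ (H.center_of_coprime hx hb (hbr.coprime hr ((Nat.coprime_primes hr H.ax.pp).mpr hne)))

/-- The order of the central quotient. -/
theorem Hyp.index_center (H : Hyp G S p q U N) : (Subgroup.center G).index = q * U := by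
  have hp := H.ax.pp
  obtain ⟨x, hx⟩ := H.surj U H.ax.U_mem
  obtain ⟨y, hy, hyp⟩ := H.exists_N_coprime
  have h1 := relC_mul_idx x
  have h2 := relC_mul_idx y
  rw [hx] at h1
  rw [hy] at h2
  have hx0 : relC x ≠ 0 := fun h => by
    rw [h, zero_mul] at h1; exact Subgroup.index_ne_zero_of_finite h1.symm
  have hy0 : ¬ p ∣ relC y := fun h => by
    obtain ⟨b, hb, hbp, hbZ⟩ := exists_of_dvd_relC hp h
    exact hbZ (H.center_of_pel hy hyp hb hbp)
  obtain ⟨hqN, hpqN⟩ := H.ax.q_dvd _ H.ax.N_mem H.ax.N_ne.1 H.ax.N_ne.2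
  obtain ⟨N', rfl⟩ := hqN
  have hN' : ¬ p ∣ N' := fun ⟨c, hc⟩ => hpqN ⟨c, by rw [hc]; ring⟩
  have hxp : relC x = p ^ (relC x).primeFactorsList.length :=
    Nat.eq_prime_pow_of_unique_prime_dvd hx0 fun {d} hd hdd => H.relC_U hx d hd hdd
  obtain ⟨f, hf, hqf⟩ := H.ax.hq
  have hkey : relC x * U = q * (relC y * N') := by rw [h1, ← h2]; ring
  generalize (relC x).primeFactorsList.length = a at hxp
  have hq1 : q ∣ relC x := by
    refine Nat.Coprime.dvd_of_dvd_mul_right (n := U) ?_ ⟨_, hkey⟩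
    rw [hqf]
    exact Nat.Coprime.pow_left f (hp.coprime_iff_not_dvd.mpr H.ax.U_cop)
  have hq2 : relC x ∣ q := by
    refine Nat.Coprime.dvd_of_dvd_mul_right (n := relC y * N') ?_ ⟨_, hkey.symm⟩
    rw [hxp]
    refine Nat.Coprime.pow_left a (hp.coprime_iff_not_dvd.mpr fun h => ?_)
    exact (hp.dvd_mul.mp h).elim hy0 hN'
  rw [← h1, Nat.dvd_antisymm hq2 hq1]

/-- A noncentral `p`-element has class size `U`. -/
theorem Hyp.idx_pel (H : Hyp G S p q U N) {w : G} (hw : IsPEl p w)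
    (hwZ : w ∉ Subgroup.center G) : idx w = U := by
  by_contra hne
  have hp := H.ax.pp
  have := Fact.mk hp
  obtain ⟨hq, hpq⟩ := H.ax.q_dvd _ (H.sizes w) (fun e => hwZ (idx_eq_one.mp e)) hne
  -- the relative index is divisible by the order of the image
  let C := cen w
  have hd : orderOf (⟨w, self_mem_cen w⟩ : C) ∣ orderOf w := by rw [Subgroup.orderOf_mk]
  have hbar : ((⟨w, self_mem_cen w⟩ : C) : C ⧸ (Subgroup.center G).subgroupOf C) ≠ 1 := fun h =>
    hwZ (Subgroup.mem_subgroupOf.mp ((QuotientGroup.eq_one_iff _).mp h))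
  have hord : orderOf ((⟨w, self_mem_cen w⟩ : C) : C ⧸ (Subgroup.center G).subgroupOf C) ∣
      relC w := by
    rw [relC, Subgroup.relIndex, Subgroup.index_eq_card]
    exact orderOf_dvd_natCard _
  obtain ⟨k, hk⟩ := hw
  have hpk : orderOf ((⟨w, self_mem_cen w⟩ : C) : C ⧸ (Subgroup.center G).subgroupOf C) ∣ p ^ k :=
    ((orderOf_map_dvd (QuotientGroup.mk' _) _).trans hd).trans (orderOf_dvd_of_pow_eq_one hk)
  obtain ⟨i, -, hi⟩ := (Nat.dvd_prime_pow hp).mp hpk
  have hi0 : i ≠ 0 := fun h => hbar (orderOf_eq_one_iff.mp (by rw [hi, h, pow_zero]))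
  have hdiv : p ∣ relC w := ((dvd_pow_self p hi0).trans (dvd_of_eq hi.symm)).trans hord
  have := relC_mul_idx w
  rw [H.index_center] at this
  obtain ⟨c, hc⟩ := hdiv
  obtain ⟨d, hdq⟩ := hq
  rw [hc, hdq] at this
  refine H.ax.U_cop ⟨c * d, Nat.eq_of_mul_eq_mul_left H.q_pos ?_⟩
  linarith

/-- A `p`-element of the quotient lifts to a `p`-element. -/
theorem exists_pel_lift {l : ℕ} (hl : l.Prime) {K : Subgroup G} [K.Normal] {a : G ⧸ K} {k : ℕ}
    (ha : a ^ l ^ k = 1) : ∃ w : G, IsPEl l w ∧ (w : G ⧸ K) = a := by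
  obtain ⟨g, rfl⟩ := QuotientGroup.mk_surjective a
  obtain ⟨u, s, -, hs, hgus, hu, hcop⟩ := Lib.Elem70.exists_primary_split hl g
  refine ⟨u, hu, ?_⟩
  have hs1 : (s : G ⧸ K) = 1 := by
    obtain ⟨i, rfl⟩ := hs
    rw [← orderOf_eq_one_iff]
    refine Nat.eq_one_of_dvd_coprimes (hcop.pow_right k) ?_ ?_
    · exact orderOf_map_dvd (QuotientGroup.mk' K) (g ^ i)
    · refine orderOf_dvd_of_pow_eq_one ?_
      rw [QuotientGroup.mk_zpow, ← zpow_natCast, ← zpow_mul, mul_comm, zpow_mul, zpow_natCast,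
        ha, one_zpow]
  conv_rhs => rw [hgus, QuotientGroup.mk_mul, hs1, mul_one]

/-- In the central quotient the centraliser of a nontrivial `p`-element has order `q`. -/
theorem Hyp.card_centralizer_quotient (H : Hyp G S p q U N) (a : G ⧸ Subgroup.center G) {k : ℕ}
    (ha : a ^ p ^ k = 1) (ha1 : a ≠ 1) :
    Nat.card (Subgroup.centralizer ({a} : Set (G ⧸ Subgroup.center G))) = q := by
  have hp := H.ax.pp
  have := Fact.mk hp
  obtain ⟨w, hwp, rfl⟩ := exists_pel_lift hp ha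
  have hwZ : w ∉ Subgroup.center G := fun h => ha1 ((QuotientGroup.eq_one_iff w).mpr h)
  have hwU := H.idx_pel hwp hwZ
  have hrel : relC w = q := Nat.eq_of_mul_eq_mul_right (Nat.pos_of_ne_zero
    (hwU ▸ idx_ne_zero w)) (by rw [← hwU, relC_mul_idx, H.index_center, hwU])
  obtain ⟨f, -, hqf⟩ := H.ax.hq
  -- the image of the centraliser
  set D := (cen w).map (QuotientGroup.mk' (Subgroup.center G)) with hD
  have hDle : D ≤ Subgroup.centralizer ({(w : G ⧸ Subgroup.center G)} : Set _) := by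
    rintro _ ⟨g, hg, rfl⟩
    rw [Subgroup.mem_centralizer_singleton_iff]
    exact (congrArg (QuotientGroup.mk (s := Subgroup.center G)) (mem_cen.mp hg)).symm
  have hDcard : Nat.card D = q := by
    rw [hD, ← hrel, relC, ← Subgroup.relIndex_ker, QuotientGroup.ker_mk']
  -- it is a `p`-group
  have hpg : IsPGroup p (Subgroup.centralizer ({(w : G ⧸ Subgroup.center G)} : Set _)) := by
    rintro ⟨c, hc⟩
    obtain ⟨g, rfl⟩ := QuotientGroup.mk_surjective c
    have hcd : ∀ i : ℤ, ∃ z ∈ Subgroup.center G, g ^ i * w * (g ^ i)⁻¹ = w * z := by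
      intro i
      refine ⟨w⁻¹ * (g ^ i * w * (g ^ i)⁻¹), ?_, by group⟩
      have h1 : Commute (g : G ⧸ Subgroup.center G) w :=
        Subgroup.mem_centralizer_singleton_iff.mp hc
      rw [← QuotientGroup.eq_one_iff]
      simp only [QuotientGroup.mk_mul, QuotientGroup.mk_inv, QuotientGroup.mk_zpow]
      rw [(h1.zpow_left i).eq]
      group
    obtain ⟨g1, g2, hg1, hg2, hge, hg1p, hg2p⟩ := Lib.Elem70.exists_primary_split hp g
    -- the `p'`-part centralises `w`
    have hg2C : g2 ∈ cen w := by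
      obtain ⟨i, rfl⟩ := hg2
      obtain ⟨z, hz, hzw⟩ := hcd i
      have hcw : Commute w z := Subgroup.mem_center_iff.mp hz w
      have hit : ∀ n : ℕ, (g ^ i) ^ n * w * ((g ^ i) ^ n)⁻¹ = w * z ^ n := by
        intro n
        induction n with
        | zero => simp
        | succ n ih =>
          rw [pow_succ']
          calc g ^ i * (g ^ i) ^ n * w * (g ^ i * (g ^ i) ^ n)⁻¹
              = g ^ i * ((g ^ i) ^ n * w * ((g ^ i) ^ n)⁻¹) * (g ^ i)⁻¹ := by group
            _ = g ^ i * (w * z ^ n) * (g ^ i)⁻¹ := by rw [ih]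
            _ = g ^ i * w * (z ^ n * (g ^ i)⁻¹) := by group
            _ = g ^ i * w * ((g ^ i)⁻¹ * z ^ n) := by
                rw [← Subgroup.mem_center_iff.mp (pow_mem hz n) (g ^ i)⁻¹]
            _ = w * z * z ^ n := by rw [← mul_assoc, hzw]
            _ = w * z ^ (n + 1) := by rw [pow_succ', mul_assoc]
      have hz1 : z ^ orderOf (g ^ i) = 1 := by
        have := hit (orderOf (g ^ i))
        rw [pow_orderOf_eq_one, one_mul, inv_one, mul_one] at this
        exact mul_eq_left.mp this.symm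
      obtain ⟨e, he⟩ := hwp
      have hz2 : z ^ p ^ e = 1 := by
        have h1 : (w * z) ^ p ^ e = 1 := by
          rw [← hzw, conj_pow, he, mul_one, mul_inv_cancel]
        rw [hcw.mul_pow, he, one_mul] at h1
        exact h1
      have hz0 : z = 1 := by
        rw [← orderOf_eq_one_iff]
        exact Nat.eq_one_of_dvd_coprimes (hg2p.pow_right e) (orderOf_dvd_of_pow_eq_one hz1)
          (orderOf_dvd_of_pow_eq_one hz2)
      rw [hz0, mul_one] at hzw
      exact mem_cen.mpr (mul_inv_eq_iff_eq_mul.mp hzw).symm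
    have hg2Z := H.center_of_coprime hwU hg2C hg2p
    have hc1 : (g : G ⧸ Subgroup.center G) = (g1 : G ⧸ Subgroup.center G) := by
      rw [hge, QuotientGroup.mk_mul, (QuotientGroup.eq_one_iff g2).mpr hg2Z, mul_one]
    obtain ⟨e, he⟩ := hg1p
    refine ⟨e, Subtype.ext ?_⟩
    change (g : G ⧸ Subgroup.center G) ^ p ^ e = 1
    rw [hc1, ← QuotientGroup.mk_pow, he, QuotientGroup.mk_one]
  obtain ⟨j, hj⟩ := IsPGroup.iff_card.mp hpg
  refine Nat.dvd_antisymm ?_ (hDcard ▸ Subgroup.card_dvd_of_le hDle)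
  have h2 : p ^ j ∣ q * U := by
    rw [← hj, ← H.index_center, Subgroup.index_eq_card]
    exact Subgroup.card_subgroup_dvd_card _
  rw [hj]
  exact (Nat.Coprime.pow_left j (hp.coprime_iff_not_dvd.mpr H.ax.U_cop)).dvd_of_dvd_mul_right h2

end Cfsg.Agent.Lib.PSLClassSize64
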