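import Mathlib
import Cfsg.Agent.S3071
import Cfsg.Agent.Lib.Elem70.Basic
import Cfsg.Agent.Lib.Linear.Order

/-!
# Groups in which the centralizers of `p`-elements are Sylow subgroups of order `q`

* `CC.abelian_of_odd` : for odd `p` the Sylow `p`-subgroups are abelian (Glauberman's `ZJ`);
* `CC.abelian_of_two` : for `p = 2` and order `q * (q² - 1)` they are elementary abelian.
-/

set_option autoImplicit false
set_option linter.unusedSectionVars false

namespace Cfsg.Agent.Lib.PSLClassSize64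

/-- Order `q * U` and centralizers of nontrivial `p`-elements of order `q`. -/
structure CC (G : Type*) [Group G] (p q U : ℕ) : Prop where
  pp : p.Prime
  hq : ∃ f : ℕ, 0 < f ∧ q = p ^ f
  cop : ¬ p ∣ U
  card : Nat.card G = q * U
  cen : ∀ (x : G) (k : ℕ), x ^ p ^ k = 1 → x ≠ 1 →
    Nat.card (Subgroup.centralizer ({x} : Set G)) = q

variable {G : Type*} [Group G] [Finite G] {p q U : ℕ}

theorem CC.factorization (h : CC G p q U) :
    p ^ (Nat.card G).factorization p = q := by
  obtain ⟨f, -, hf⟩ := h.hq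
  have hU : U ≠ 0 := fun e => h.cop (e ▸ dvd_zero p)
  rw [h.card, Nat.factorization_mul (by rw [hf]; exact pow_ne_zero _ h.pp.ne_zero) hU,
    Finsupp.add_apply, Nat.factorization_eq_zero_of_not_dvd h.cop, add_zero, hf,
    h.pp.factorization_pow, Finsupp.single_eq_same]

theorem CC.card_sylow (h : CC G p q U) [Fact p.Prime] (S : Sylow p G) :
    Nat.card (S : Subgroup G) = q := by
  rw [S.card_eq_multiplicity, h.factorization]

theorem pel_of_mem {H : Subgroup G} (hH : IsPGroup p H) {x : G} (hx : x ∈ H) :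
    ∃ k : ℕ, x ^ p ^ k = 1 := by
  obtain ⟨k, hk⟩ := hH ⟨x, hx⟩
  exact ⟨k, by simpa using congrArg Subtype.val hk⟩

/-- Centralisers of `p`-elements are `p`-groups. -/
theorem CC.isPGroup_cen (h : CC G p q U) {x : G} {k : ℕ} (hx : x ^ p ^ k = 1) (hx1 : x ≠ 1) :
    IsPGroup p (Subgroup.centralizer ({x} : Set G)) := by
  obtain ⟨f, -, hf⟩ := h.hq
  exact IsPGroup.of_card (n := f) ((h.cen x k hx hx1).trans hf)

/-- The centraliser of a nontrivial subgroup of a Sylow subgroup is a `p`-group. -/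
theorem CC.isPGroup_centralizer (h : CC G p q U) {R : Subgroup G} (hR : IsPGroup p R)
    (hR1 : R ≠ ⊥) : IsPGroup p (Subgroup.centralizer (R : Set G)) := by
  obtain ⟨r, hr, hr1⟩ := (Subgroup.bot_or_exists_ne_one R).resolve_left hR1
  obtain ⟨k, hk⟩ := pel_of_mem hR hr
  exact (h.isPGroup_cen hk hr1).to_le (Subgroup.centralizer_le (by simpa using hr))

theorem eq_one_of_pel_sq {x : G} {k : ℕ} (hp : p.Prime) (hodd : p ≠ 2) (hx : x ^ p ^ k = 1)
    (h2 : x * x = 1) : x = 1 := by
  rw [← orderOf_eq_one_iff]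
  refine Nat.eq_one_of_dvd_coprimes (a := p ^ k) (b := 2) ?_ (orderOf_dvd_of_pow_eq_one hx)
    (orderOf_dvd_of_pow_eq_one (by rw [sq]; exact h2))
  exact Nat.Coprime.pow_left k ((Nat.coprime_primes hp Nat.prime_two).mpr hodd)

/-- An involution normalising a `p`-subgroup inverts it. -/
theorem CC.inverts (h : CC G p q U) (hp2 : p ≠ 2) {K : Subgroup G} (hK : IsPGroup p K) {i : G}
    (hi : orderOf i = 2) (hiK : i ∈ Subgroup.normalizer (K : Set G)) :
    ∀ x ∈ K, i * x * i⁻¹ = x⁻¹ := by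
  let φ : K →* K := MonoidHom.mk' (fun x => ⟨i * x * i⁻¹,
      (Subgroup.mem_normalizer_iff.mp hiK (x : G)).mp x.2⟩)
    (fun a b => Subtype.ext (by simp only [Subgroup.coe_mul]; group))
  have hinv : Function.Involutive φ := fun x => Subtype.ext (by
    change i * (i * (x : G) * i⁻¹) * i⁻¹ = x
    have h2 : i * i = 1 := by
      have := pow_orderOf_eq_one i
      rwa [hi, sq] at this
    calc i * (i * (x : G) * i⁻¹) * i⁻¹ = i * i * x * (i * i)⁻¹ := by group
      _ = x := by rw [h2]; group)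
  have hfpf : ∀ x : K, φ x = x → x = 1 := by
    intro x hx
    by_contra hx1
    obtain ⟨k, hk⟩ := pel_of_mem hK x.2
    have hmem : i ∈ Subgroup.centralizer ({(x : G)} : Set G) := by
      rw [Subgroup.mem_centralizer_singleton_iff]
      exact mul_inv_eq_iff_eq_mul.mp (congrArg Subtype.val hx)
    obtain ⟨e, he⟩ := pel_of_mem (h.isPGroup_cen hk (fun e => hx1 (Subtype.ext e))) hmem
    have : i = 1 := eq_one_of_pel_sq h.pp hp2 he (by
      have := pow_orderOf_eq_one i; rwa [hi, sq] at this)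
    rw [this, orderOf_one] at hi
    omega
  intro x hx
  have := MonoidHom.FixedPointFree.coe_eq_inv_of_involutive (φ := φ) (fun x => hfpf x) hinv
  exact congrArg Subtype.val (congrFun this ⟨x, hx⟩)

/-- If the normaliser of a nontrivial `p`-subgroup has even order, its `p`-elements centralise
the subgroup. -/
theorem CC.pel_centralizes (h : CC G p q U) (hp2 : p ≠ 2) {R : Subgroup G} (hR : IsPGroup p R)
    (hR1 : R ≠ ⊥) {i : G} (hi : orderOf i = 2) (hiN : i ∈ Subgroup.normalizer (R : Set G))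
    {u : G} {k : ℕ} (hu : u ^ p ^ k = 1) (huN : u ∈ Subgroup.normalizer (R : Set G)) :
    u ∈ Subgroup.centralizer (R : Set G) := by
  set C := Subgroup.centralizer (R : Set G) with hC
  have hCN : Subgroup.normalizer (R : Set G) ≤ Subgroup.normalizer (C : Set G) := by
    intro n hn
    rw [Subgroup.mem_normalizer_iff]
    intro c
    have key : ∀ m ∈ Subgroup.normalizer (R : Set G), ∀ d ∈ C, m * d * m⁻¹ ∈ C := by
      intro m hm d hd
      rw [hC, Subgroup.mem_centralizer_iff] at hd ⊢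
      intro r hr
      have h1 : m⁻¹ * r * m ∈ R := (Subgroup.mem_normalizer_iff.mp hm _).mpr (by
        rw [show m * (m⁻¹ * r * m) * m⁻¹ = r by group]; exact hr)
      calc r * (m * d * m⁻¹) = m * ((m⁻¹ * r * m) * d) * m⁻¹ := by group
        _ = m * (d * (m⁻¹ * r * m)) * m⁻¹ := by rw [hd _ h1]
        _ = m * d * m⁻¹ * r := by group
    refine ⟨key n hn c, fun hc => ?_⟩
    have := key n⁻¹ (inv_mem hn) _ hc
    rwa [show n⁻¹ * (n * c * n⁻¹) * n⁻¹⁻¹ = c by group] at this
  -- `i` and its conjugate invert `R`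
  have hinvR := h.inverts hp2 hR hi hiN
  have hj : orderOf (u * i * u⁻¹) = 2 := by
    rw [← hi]; exact (MulAut.conj u).orderOf_eq i
  have hinvR' := h.inverts hp2 hR hj (mul_mem (mul_mem huN hiN) (inv_mem huN))
  have hc : i * (u * i * u⁻¹) ∈ C := by
    rw [hC, Subgroup.mem_centralizer_iff]
    intro r hr
    have h1 := hinvR' r hr
    have h2 := hinvR r⁻¹ (inv_mem hr)
    rw [inv_inv] at h2
    have : i * (u * i * u⁻¹) * r * (i * (u * i * u⁻¹))⁻¹ = r := by
      calc i * (u * i * u⁻¹) * r * (i * (u * i * u⁻¹))⁻¹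
          = i * (u * i * u⁻¹ * r * (u * i * u⁻¹)⁻¹) * i⁻¹ := by group
        _ = r := by rw [h1, h2]
    exact (mul_inv_eq_iff_eq_mul.mp this).symm
  -- the subgroup generated by `C` and `u` is a `p`-group normalised by `i`
  have hCp : IsPGroup p C := h.isPGroup_centralizer hR hR1
  have hzu : IsPGroup p (Subgroup.zpowers u) := by
    rintro ⟨y, j, rfl⟩
    refine ⟨k, Subtype.ext ?_⟩
    change (u ^ j) ^ p ^ k = 1
    rw [← zpow_natCast, ← zpow_mul, mul_comm, zpow_mul, zpow_natCast, hu, one_zpow]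
  set K := C ⊔ Subgroup.zpowers u with hK
  have hKp : IsPGroup p K :=
    hCp.to_sup_of_normal_left' hzu ((Subgroup.zpowers_le.mpr huN).trans hCN)
  have hiK : i ∈ Subgroup.normalizer (K : Set G) := by
    have hii : i * i = 1 := by
      have := pow_orderOf_eq_one i
      rwa [hi, sq] at this
    have hle : K.map (MulAut.conj i).toMonoidHom ≤ K := by
      rw [hK, Subgroup.map_sup, sup_le_iff]
      constructor
      · rintro _ ⟨c, hc', rfl⟩
        refine Subgroup.mem_sup_left ?_
        exact (Subgroup.mem_normalizer_iff.mp (hCN hiN) c).mp hc'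
      · rw [MonoidHom.map_zpowers, Subgroup.zpowers_le]
        change i * u * i⁻¹ ∈ K
        have : i * u * i⁻¹ = i * (u * i * u⁻¹) * u := by
          have hiv : i⁻¹ = i := inv_eq_of_mul_eq_one_right hii
          rw [hiv]; group
        rw [this]
        exact mul_mem (Subgroup.mem_sup_left hc) (Subgroup.mem_sup_right (Subgroup.mem_zpowers u))
    rw [Subgroup.mem_normalizer_iff]
    intro c
    refine ⟨fun hc' => hle ⟨c, hc', rfl⟩, fun hc' => ?_⟩
    have := hle ⟨_, hc', rfl⟩
    change i * (i * c * i⁻¹) * i⁻¹ ∈ K at this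
    rwa [show i * (i * c * i⁻¹) * i⁻¹ = i * i * c * (i * i)⁻¹ by group, hii, one_mul, inv_one,
      mul_one] at this
  have hiu := h.inverts hp2 hKp hi hiK u (Subgroup.mem_sup_right (Subgroup.mem_zpowers u))
  have hu2 : u * u ∈ C := by
    have hii : i⁻¹ = i := inv_eq_of_mul_eq_one_right (by
      have := pow_orderOf_eq_one i
      rwa [hi, sq] at this)
    have : u * u = (i * (u * i * u⁻¹))⁻¹ := by
      calc u * u = u * (u⁻¹)⁻¹ := by group
        _ = u * (i * u * i⁻¹)⁻¹ := by rw [hiu]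
        _ = _ := by rw [hii]; group
    rw [this]
    exact inv_mem hc
  -- `u` is a power of its square
  have hcop : (orderOf u).Coprime 2 :=
    Nat.Coprime.coprime_dvd_left (orderOf_dvd_of_pow_eq_one hu)
      (Nat.Coprime.pow_left k ((Nat.coprime_primes h.pp Nat.prime_two).mpr hp2))
  obtain ⟨m, hm⟩ := exists_pow_eq_self_of_coprime hcop.symm
  rw [← hm, sq]
  exact pow_mem hu2 m

theorem matrix_not_commute [Fact p.Prime] :
    ∃ a b : Matrix.SpecialLinearGroup (Fin 2) (ZMod p), a ^ p = 1 ∧ b ^ p = 1 ∧ a * b ≠ b * a := by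
  let T : Matrix.SpecialLinearGroup (Fin 2) (ZMod p) := ⟨!![1, 1; 0, 1], by simp [Matrix.det_fin_two]⟩
  let L : Matrix.SpecialLinearGroup (Fin 2) (ZMod p) := ⟨!![1, 0; 1, 1], by simp [Matrix.det_fin_two]⟩
  have hT : ∀ n : ℕ, ((T ^ n : Matrix.SpecialLinearGroup (Fin 2) (ZMod p)) :
      Matrix (Fin 2) (Fin 2) (ZMod p)) = !![1, (n : ZMod p); 0, 1] := by
    intro n
    induction n with
    | zero => simp [Matrix.one_fin_two]
    | succ n ih => rw [pow_succ, Matrix.SpecialLinearGroup.coe_mul, ih]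
                   simp [T, Matrix.mul_fin_two, add_comm]
  have hL : ∀ n : ℕ, ((L ^ n : Matrix.SpecialLinearGroup (Fin 2) (ZMod p)) :
      Matrix (Fin 2) (Fin 2) (ZMod p)) = !![1, 0; (n : ZMod p), 1] := by
    intro n
    induction n with
    | zero => simp [Matrix.one_fin_two]
    | succ n ih => rw [pow_succ, Matrix.SpecialLinearGroup.coe_mul, ih]
                   simp [L, Matrix.mul_fin_two, add_comm]
  refine ⟨T, L, ?_, ?_, fun e => ?_⟩
  · apply Subtype.ext
    rw [hT p]
    simp [Matrix.one_fin_two]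
  · apply Subtype.ext
    rw [hL p]
    simp [Matrix.one_fin_two]
  · have := congrArg (fun m : Matrix.SpecialLinearGroup (Fin 2) (ZMod p) =>
      (m : Matrix (Fin 2) (Fin 2) (ZMod p)) 0 0) e
    rw [Matrix.SpecialLinearGroup.coe_mul, Matrix.SpecialLinearGroup.coe_mul] at this
    simp [T, L, Matrix.mul_apply, Fin.sum_univ_two] at this

/-- No local subgroup involves `SL(2, p)`. -/
theorem CC.no_sl_two (h : CC G p q U) [Fact p.Prime] (hp2 : p ≠ 2) {R : Subgroup G}
    (hR : IsPGroup p R) (hR1 : R ≠ ⊥) :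
    ¬ ∃ (H K : Subgroup G) (_hK : (K.subgroupOf H).Normal),
      H ≤ Subgroup.normalizer (R : Set G) ∧
        Nonempty ((H ⧸ K.subgroupOf H) ≃* Matrix.SpecialLinearGroup (Fin 2) (ZMod p)) := by
  rintro ⟨H, K, hK, hHN, ⟨e⟩⟩
  let φ : H →* Matrix.SpecialLinearGroup (Fin 2) (ZMod p) :=
    e.toMonoidHom.comp (QuotientGroup.mk' _)
  have hφ : Function.Surjective φ := e.surjective.comp (QuotientGroup.mk'_surjective _)
  have hdvd : Nat.card (Matrix.SpecialLinearGroup (Fin 2) (ZMod p)) ∣ Nat.card H :=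
    Subgroup.card_dvd_of_surjective φ hφ
  have hneg : orderOf (-1 : Matrix.SpecialLinearGroup (Fin 2) (ZMod p)) = 2 := by
    refine orderOf_eq_prime (by simp [sq]) fun e => ?_
    have := congrArg (fun m : Matrix.SpecialLinearGroup (Fin 2) (ZMod p) =>
      (m : Matrix (Fin 2) (Fin 2) (ZMod p)) 0 0) e
    simp [Matrix.one_fin_two] at this
    have h2 : ((2 : ℕ) : ZMod p) = 0 := by push_cast; linear_combination -this
    rw [ZMod.natCast_eq_zero_iff] at h2
    exact hp2 ((Nat.prime_dvd_prime_iff_eq Fact.out Nat.prime_two).mp h2)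
  have h2 : 2 ∣ Nat.card H := (hneg ▸ orderOf_dvd_natCard _).trans hdvd
  have := Fact.mk Nat.prime_two
  obtain ⟨i, hi⟩ := exists_prime_orderOf_dvd_card' 2 h2
  have hi' : orderOf (i : G) = 2 := by rw [Subgroup.orderOf_coe]; exact hi
  -- all `p`-elements of `H` lie in the normal `p`-subgroup `C ∩ H`
  set C := (Subgroup.centralizer (R : Set G)).subgroupOf H with hC
  have hCp : IsPGroup p C :=
    (h.isPGroup_centralizer hR hR1).comap_of_injective H.subtype Subtype.val_injective
  have hlift : ∀ a : Matrix.SpecialLinearGroup (Fin 2) (ZMod p), a ^ p = 1 → a ∈ C.map φ := by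
    intro a ha
    obtain ⟨x, rfl⟩ := hφ a
    obtain ⟨u, s, -, hs, hxus, ⟨k, hk⟩, hcop⟩ :=
      Lib.Elem70.exists_primary_split h.pp x
    have hs1 : φ s = 1 := by
      obtain ⟨j, rfl⟩ := hs
      rw [← orderOf_eq_one_iff]
      refine Nat.eq_one_of_dvd_coprimes hcop (orderOf_map_dvd φ _) (orderOf_dvd_of_pow_eq_one ?_)
      rw [map_zpow, ← zpow_natCast, ← zpow_mul, mul_comm, zpow_mul, zpow_natCast, ha, one_zpow]
    refine ⟨u, h.pel_centralizes hp2 hR hR1 hi' (hHN i.2) (k := k) ?_ (hHN u.2), ?_⟩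
    · simpa using congrArg Subtype.val hk
    · rw [hxus, map_mul, hs1, mul_one]
  have hP : IsPGroup p (C.map φ) := hCp.map φ
  obtain ⟨a, b, ha, hb, hab⟩ := matrix_not_commute (p := p)
  -- a `p`-subgroup of `SL(2, p)` has order at most `p`
  obtain ⟨n, hn⟩ := IsPGroup.iff_card.mp hP
  have hcard : Nat.card (C.map φ) ∣ p * (p - 1) * (p + 1) := by
    refine (Subgroup.card_subgroup_dvd_card _).trans (dvd_of_eq ?_)
    rw [Lib.Linear.card_SL_two, ZMod.card]
  have hn1 : n ≤ 1 := by
    by_contra hc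
    have h' : p * p ∣ p * ((p - 1) * (p + 1)) := by
      rw [← mul_assoc, ← sq]
      exact (pow_dvd_pow p (by omega : 2 ≤ n)).trans (hn ▸ hcard)
    have hpp := h.pp
    rcases hpp.dvd_mul.mp ((Nat.mul_dvd_mul_iff_left hpp.pos).mp h') with h'' | h''
    · have := hpp.two_le
      have := Nat.le_of_dvd (by omega) h''
      omega
    · have h3 := (Nat.dvd_add_right (dvd_refl p)).mp h''
      exact hpp.ne_one (Nat.eq_one_of_dvd_one h3)
  have hcyc : IsCyclic (C.map φ) := by
    rcases Nat.le_one_iff_eq_zero_or_eq_one.mp hn1 with rfl | rfl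
    · have : Subsingleton (C.map φ) := (Nat.card_eq_one_iff_unique.mp (by simpa using hn)).1
      infer_instance
    · exact isCyclic_of_prime_card (p := p) (by simpa using hn)
  obtain ⟨g, hg⟩ := hcyc.exists_generator
  obtain ⟨i₁, hi₁⟩ := hg ⟨a, hlift a ha⟩
  obtain ⟨i₂, hi₂⟩ := hg ⟨b, hlift b hb⟩
  refine hab ?_
  have : (⟨a, hlift a ha⟩ * ⟨b, hlift b hb⟩ : C.map φ) = ⟨b, hlift b hb⟩ * ⟨a, hlift a ha⟩ := by
    rw [← hi₁, ← hi₂]
    exact zpow_mul_comm g i₁ i₂
  exact congrArg Subtype.val this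

/-- A nontrivial element of a Sylow subgroup is conjugate into its center. -/
theorem CC.exists_conj_center (h : CC G p q U) [Fact p.Prime] (S : Sylow p G) {s : G}
    (hs : s ∈ (S : Subgroup G)) (hs1 : s ≠ 1) :
    ∃ g : G, g * s * g⁻¹ ∈ (S : Subgroup G) ∧ ∀ y ∈ (S : Subgroup G),
      y * (g * s * g⁻¹) = g * s * g⁻¹ * y := by
  obtain ⟨k, hk⟩ := pel_of_mem S.2 hs
  let T : Sylow p G := Sylow.ofCard (Subgroup.centralizer ({s} : Set G))
    (by rw [h.cen s k hk hs1, h.factorization])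
  obtain ⟨g, hg⟩ := MulAction.exists_smul_eq G T S
  have hmem : ∀ y : G, y ∈ (S : Subgroup G) ↔ g⁻¹ * y * g * s = s * (g⁻¹ * y * g) := by
    intro y
    rw [← hg, Sylow.coe_subgroup_smul, Subgroup.mem_pointwise_smul_iff_inv_smul_mem,
      MulAut.smul_def, MulAut.conj_inv_apply]
    exact Subgroup.mem_centralizer_singleton_iff
  refine ⟨g, (hmem _).mpr (by group), fun y hy => ?_⟩
  have := (hmem y).mp hy
  calc y * (g * s * g⁻¹) = g * (g⁻¹ * y * g * s) * g⁻¹ := by group
    _ = g * (s * (g⁻¹ * y * g)) * g⁻¹ := by rw [this]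
    _ = g * s * g⁻¹ * y := by group

/-- For odd `p` the Sylow subgroups are abelian. -/
theorem CC.abelian_of_odd (h : CC G p q U) [Fact p.Prime] (hp2 : p ≠ 2) (S : Sylow p G) :
    ∀ a ∈ (S : Subgroup G), ∀ b ∈ (S : Subgroup G), a * b = b * a := by
  by_cases hS : (S : Subgroup G) = ⊥
  · intro a ha b _; rw [hS, Subgroup.mem_bot] at ha; simp [ha]
  set Q := Cfsg.centerThompsonAOf (S : Subgroup G) with hQ
  have hcz : ∀ x ∈ (S : Subgroup G), (∀ y ∈ (S : Subgroup G), y * x = x * y) → x ∈ Q := by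
    intro x hx hxc
    obtain ⟨A, hA⟩ := ZJ.maxAbIn_nonempty (S : Subgroup G)
    refine Subgroup.mem_inf.2 ⟨ZJ.le_thompsonSubgroupAOf hA ?_,
      Subgroup.mem_centralizer_iff.2 fun y hy => hxc y (ZJ.thompsonSubgroupAOf_le _ hy)⟩
    exact ZJ.mem_of_maxAbIn hA hx fun a ha => hxc a (hA.1 ha)
  have hQS : Q ≤ (S : Subgroup G) := inf_le_left.trans (ZJ.thompsonSubgroupAOf_le _)
  obtain ⟨s₀, hs₀, hs₀1⟩ := (Subgroup.bot_or_exists_ne_one _).resolve_left hS
  obtain ⟨g₀, hz, hzc⟩ := h.exists_conj_center S hs₀ hs₀1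
  have hQ1 : Q ≠ ⊥ := fun e => hs₀1 (by
    have := hcz _ hz hzc
    rw [e, Subgroup.mem_bot] at this
    simpa using this)
  set M := Subgroup.normalizer (Q : Set G) with hM
  have hctl := Cfsg.Agent.S3071.result hp2 S (by
    intro P hP hPS
    refine h.no_sl_two hp2 (S.2.to_le hPS) (fun e => hs₀1 ?_)
    have : g₀ * s₀ * g₀⁻¹ ∈ P := hP ⟨hz, Subgroup.mem_centralizer_iff.mpr fun y hy => hzc y hy⟩
    rw [e, Subgroup.mem_bot] at this
    simpa using this)
  have hCQ : IsPGroup p (Subgroup.centralizer (Q : Set G)) :=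
    h.isPGroup_centralizer (S.2.to_le hQS) hQ1
  have hSM : (S : Subgroup G) ≤ M := by
    intro x hx
    rw [hM, hQ, Subgroup.mem_normalizer_iff]
    intro c
    have key : ∀ y ∈ (S : Subgroup G), ∀ d ∈ Q, y * d * y⁻¹ ∈ Q := fun y hy d hd =>
      (Subgroup.mem_normalizer_iff.mp (ZJ.normalizer_le_normalizer_centerThompsonA _
        (Subgroup.le_normalizer hy)) d).mp hd
    refine ⟨key x hx c, fun hc => ?_⟩
    have := key x⁻¹ (inv_mem hx) _ hc
    rwa [show x⁻¹ * (x * c * x⁻¹) * x⁻¹⁻¹ = c by group] at this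
  have hMC : M ≤ Subgroup.normalizer (Subgroup.centralizer (Q : Set G) : Set G) := by
    intro n hn
    rw [Subgroup.mem_normalizer_iff]
    have key : ∀ m ∈ M, ∀ d ∈ Subgroup.centralizer (Q : Set G),
        m * d * m⁻¹ ∈ Subgroup.centralizer (Q : Set G) := by
      intro m hm d hd
      rw [Subgroup.mem_centralizer_iff] at hd ⊢
      intro r hr
      have h1 : m⁻¹ * r * m ∈ Q := (Subgroup.mem_normalizer_iff.mp hm _).mpr (by
        rw [show m * (m⁻¹ * r * m) * m⁻¹ = r by group]; exact hr)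
      calc r * (m * d * m⁻¹) = m * ((m⁻¹ * r * m) * d) * m⁻¹ := by group
        _ = m * (d * (m⁻¹ * r * m)) * m⁻¹ := by rw [hd _ h1]
        _ = m * d * m⁻¹ * r := by group
    intro c
    refine ⟨key n hn c, fun hc => ?_⟩
    have := key n⁻¹ (inv_mem hn) _ hc
    rwa [show n⁻¹ * (n * c * n⁻¹) * n⁻¹⁻¹ = c by group] at this
  have hCS : Subgroup.centralizer (Q : Set G) ≤ (S : Subgroup G) := by
    have hp : IsPGroup p ↥(Subgroup.centralizer (Q : Set G) ⊔ (S : Subgroup G)) :=
      hCQ.to_sup_of_normal_left' S.2 (hSM.trans hMC)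
    exact le_sup_left.trans (S.3 hp le_sup_right).le
  -- every element of `S` centralises `C(Q)`
  have hW : ∀ s ∈ (S : Subgroup G), s ∈ Subgroup.centralizer (Q : Set G) ∧
      ∀ d ∈ Subgroup.centralizer (Q : Set G), d * s = s * d := by
    intro s hs
    by_cases hs1 : s = 1
    · subst hs1; exact ⟨one_mem _, fun d _ => by simp⟩
    obtain ⟨g, hg, hgc⟩ := h.exists_conj_center S hs hs1
    obtain ⟨n, hn, hne⟩ := (hctl s hs _ hg).mp ⟨g, rfl⟩
    have h1 : n * s * n⁻¹ ∈ Subgroup.centralizer (Q : Set G) :=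
      Subgroup.mem_centralizer_iff.mpr fun y hy => by rw [hne]; exact hgc y (hQS hy)
    have h2 : s ∈ Subgroup.centralizer (Q : Set G) :=
      (Subgroup.mem_normalizer_iff.mp (hMC hn) s).mpr h1
    refine ⟨h2, fun d hd => ?_⟩
    have hd' : n * d * n⁻¹ ∈ (S : Subgroup G) :=
      hCS ((Subgroup.mem_normalizer_iff.mp (hMC hn) d).mp hd)
    have := hgc _ hd'
    rw [← hne] at this
    calc d * s = n⁻¹ * (n * d * n⁻¹ * (n * s * n⁻¹)) * n := by group
      _ = n⁻¹ * (n * s * n⁻¹ * (n * d * n⁻¹)) * n := by rw [this]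
      _ = s * d := by group
  intro a ha b hb
  exact (hW b hb).2 a (hW a ha).1

theorem card_modEq_of_free {X : Type*} [Group X] [Finite X] (P : Subgroup X) (Y : Set X)
    (hY : ∀ x ∈ P, ∀ y ∈ Y, x * y * x⁻¹ ∈ Y)
    (hfree : ∀ x ∈ P, ∀ y ∈ Y, x * y * x⁻¹ = y → x = 1) :
    Nat.card P ∣ Nat.card Y := by
  let act : MulAction P Y :=
    { smul := fun x y => ⟨(x : X) * y * (x : X)⁻¹, hY x x.2 y y.2⟩
      one_smul := fun y => Subtype.ext (by change (1 : X) * y * (1 : X)⁻¹ = y; simp)
      mul_smul := fun a b y => Subtype.ext (by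
        change ((a * b : P) : X) * y * ((a * b : P) : X)⁻¹ =
          (a : X) * ((b : X) * y * (b : X)⁻¹) * (a : X)⁻¹
        simp only [Subgroup.coe_mul]; group) }
  let orb : MulAction.orbitRel.Quotient P Y → Type _ := fun ω => ω.orbit
  have e := MulAction.selfEquivSigmaOrbits' P Y
  have hb : ∀ y : Y, Nat.card (MulAction.orbit P y) = Nat.card P := by
    intro y
    have h1 := Nat.card_congr (MulAction.orbitProdStabilizerEquivGroup P y)
    rw [Nat.card_prod] at h1
    have h2 : Nat.card (MulAction.stabilizer P y) = 1 := by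
      rw [Subgroup.card_eq_one, Subgroup.eq_bot_iff_forall]
      intro x hx
      exact Subtype.ext (hfree x x.2 y y.2 (congrArg Subtype.val hx))
    rwa [h2, mul_one] at h1
  have : Fintype (MulAction.orbitRel.Quotient P Y) := Fintype.ofFinite _
  rw [Nat.card_congr e, Nat.card_sigma]
  refine Finset.dvd_sum fun ω _ => ?_
  induction ω using Quotient.inductionOn' with
  | h y => rw [MulAction.orbitRel.Quotient.orbit_mk]; exact dvd_of_eq (hb y).symm

/-- All elements of order a power of `p` outside the identity form `m` classes of size `U`, and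
`q` divides `1 + m * U`. For `p = 2`, `q + 1 ∣ U + 1` style arithmetic gives one class. -/
theorem CC.abelian_of_two (h : CC G 2 q U) (hU : U + 1 = q * q) (S : Sylow 2 G) :
    ∀ a ∈ (S : Subgroup G), ∀ b ∈ (S : Subgroup G), a * b = b * a := by
  classical
  have := Fact.mk Nat.prime_two
  have hq0 : 0 < q := by obtain ⟨f, -, rfl⟩ := h.hq; positivity
  let T : Set G := {x | (∃ k : ℕ, x ^ 2 ^ k = 1) ∧ x ≠ 1}
  -- elements of other orders are permuted semiregularly
  let Y : Set G := {y | ¬ ∃ k : ℕ, y ^ 2 ^ k = 1}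
  have hconjpow : ∀ (x y : G) (n : ℕ), (x * y * x⁻¹) ^ n = 1 ↔ y ^ n = 1 := by
    intro x y n
    rw [conj_pow, mul_inv_eq_one, mul_eq_left]
  have hY : q ∣ Nat.card Y := by
    rw [← h.card_sylow S]
    refine card_modEq_of_free _ Y (fun x _ y hy => fun ⟨k, hk⟩ => hy ⟨k, (hconjpow x y _).mp hk⟩) ?_
    intro x hx y hy he
    by_contra hx1
    obtain ⟨k, hk⟩ := pel_of_mem S.2 hx
    refine hy (pel_of_mem (h.isPGroup_cen hk hx1) ?_)
    exact Subgroup.mem_centralizer_singleton_iff.mpr (mul_inv_eq_iff_eq_mul.mp he).symm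
  have hsplit : Nat.card G = Nat.card T + 1 + Nat.card Y := by
    have := Fintype.ofFinite G
    rw [Nat.card_eq_fintype_card, Nat.card_eq_card_toFinset, Nat.card_eq_card_toFinset,
      ← Finset.card_univ]
    have e : (Finset.univ : Finset G) = insert 1 T.toFinset ∪ Y.toFinset := by
      ext x
      simp only [Finset.mem_univ, Finset.mem_union, Finset.mem_insert, Set.mem_toFinset, true_iff,
        T, Y, Set.mem_setOf_eq]
      tauto
    rw [e, Finset.card_union_of_disjoint, Finset.card_insert_of_notMem]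
    · simp [T]
    · rw [Finset.disjoint_left]
      intro x hx hy
      simp only [Finset.mem_insert, Set.mem_toFinset, T, Set.mem_setOf_eq] at hx
      simp only [Set.mem_toFinset, Y, Set.mem_setOf_eq] at hy
      rcases hx with rfl | hx
      · exact hy ⟨0, one_pow _⟩
      · exact hy hx.1
  -- the classes inside `T`
  let cl : T → ConjClasses G := fun x => ConjClasses.mk (x : G)
  have hT : Nat.card T = Nat.card (Set.range cl) * U := by
    have e := Equiv.sigmaFiberEquiv (Set.rangeFactorization cl)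
    have := Fintype.ofFinite (Set.range cl)
    rw [← Nat.card_congr e, Nat.card_sigma, Nat.card_eq_fintype_card]
    rw [Finset.sum_eq_card_nsmul (b := U), Finset.card_univ, smul_eq_mul]
    rintro ⟨_, ⟨x, hx⟩, rfl⟩ _
    obtain ⟨k, hk⟩ := hx.1
    have h1 : Nat.card (ConjClasses.mk x).carrier = U := by
      rw [ConjClasses.carrier_eq_preimage_mk]
      have hc := Subgroup.card_mul_index (Subgroup.centralizer ({x} : Set G))
      rw [h.cen x k hk hx.2, h.card] at hc
      rw [← Nat.eq_of_mul_eq_mul_left hq0 hc, ← ConjClasses.carrier_eq_preimage_mk,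
        ← ConjAct.orbit_eq_carrier_conjClasses, Subgroup.centralizer_eq_comap_stabilizer]
      refine ((Nat.card_congr (MulAction.orbitEquivQuotientStabilizer _ _)).trans
        (Subgroup.index_eq_card _).symm).trans ?_
      exact (Subgroup.index_comap_of_surjective _
        (f := (ConjAct.toConjAct : G ≃* ConjAct G).toMonoidHom) ConjAct.toConjAct.surjective).symm
    rw [← h1]
    refine Nat.card_congr
      ⟨fun y => ⟨(y.1 : G), ?_⟩, fun y => ⟨⟨y.1, ?_⟩, ?_⟩, fun y => rfl, fun y => rfl⟩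
    · exact ConjClasses.mem_carrier_iff_mk_eq.mpr (congrArg Subtype.val y.2)
    · obtain ⟨c, hc⟩ := isConj_iff.mp
        (ConjClasses.mk_eq_mk_iff_isConj.mp (ConjClasses.mem_carrier_iff_mk_eq.mp y.2))
      refine ⟨⟨k, (hconjpow c y.1 _).mp (by rw [hc, hk])⟩, fun e => hx.2 ?_⟩
      rw [← hc, e]; group
    · exact Subtype.ext (ConjClasses.mem_carrier_iff_mk_eq.mp y.2)
  -- there is only one
  have hlt : Nat.card (Set.range cl) < q := by
    have hsur : Function.Surjective (fun s : {s : (S : Subgroup G) // s ≠ 1} =>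
        (⟨cl ⟨((s.1 : (S : Subgroup G)) : G), pel_of_mem S.2 s.1.2,
          fun e => s.2 (Subtype.ext e)⟩, _, rfl⟩ : Set.range cl)) := by
      rintro ⟨_, ⟨x, hx⟩, rfl⟩
      obtain ⟨k, hk⟩ := hx.1
      have hpg : IsPGroup 2 (Subgroup.zpowers x) := by
        rintro ⟨y, j, rfl⟩
        refine ⟨k, Subtype.ext ?_⟩
        change (x ^ j) ^ 2 ^ k = 1
        rw [← zpow_natCast, ← zpow_mul, mul_comm, zpow_mul, zpow_natCast, hk, one_zpow]
      obtain ⟨S', hS'⟩ := hpg.exists_le_sylow
      obtain ⟨c, hc⟩ := MulAction.exists_smul_eq G S' S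
      have hcx : c * x * c⁻¹ ∈ (S : Subgroup G) := by
        rw [← hc, Sylow.coe_subgroup_smul]
        exact Subgroup.smul_mem_pointwise_smul x (MulAut.conj c) _ (hS' (Subgroup.mem_zpowers x))
      refine ⟨⟨⟨_, hcx⟩, fun e => hx.2 ?_⟩, Subtype.ext ?_⟩
      · simpa using congrArg Subtype.val e
      · exact ConjClasses.mk_eq_mk_iff_isConj.mpr (isConj_iff.mpr ⟨c⁻¹, by group⟩)
    have h1 := Nat.card_le_card_of_surjective _ hsur
    have := Fintype.ofFinite (S : Subgroup G)
    rw [Nat.card_eq_fintype_card (α := {s : (S : Subgroup G) // s ≠ 1}),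
      Fintype.card_subtype_compl, Fintype.card_subtype_eq, ← Nat.card_eq_fintype_card,
      h.card_sylow S] at h1
    have h2 : Nat.card (Set.range cl) ≤ q - 1 := h1
    omega
  have hone : Nat.card (Set.range cl) = 1 := by
    obtain ⟨m, hm⟩ := hY
    rw [h.card, hT, hm] at hsplit
    generalize Nat.card (Set.range cl) = r at hsplit hlt ⊢
    have e1 : (r : ℤ) * U + 1 + q * m = q * U := by exact_mod_cast hsplit.symm
    have e2 : (U : ℤ) + 1 = q * q := by exact_mod_cast hU
    have hdvd : (q : ℤ) ∣ (r : ℤ) - 1 := ⟨r * q + m - U, by linear_combination -e1 + (r : ℤ) * e2⟩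
    by_contra hr
    rcases Nat.eq_zero_or_pos r with rfl | hrpos
    · have hq1 : (q : ℤ) ∣ 1 := by simpa using hdvd
      obtain ⟨f, hf, rfl⟩ := h.hq
      have : 2 ^ f ∣ 1 := by exact_mod_cast hq1
      exact absurd (Nat.eq_one_of_dvd_one this) (Nat.one_lt_two_pow hf.ne').ne'
    · have := Int.le_of_dvd (by omega) hdvd
      omega
  -- so every such element is an involution
  have hsub : Subsingleton (Set.range cl) := (Nat.card_eq_one_iff_unique.mp hone).1
  have hsq : ∀ s ∈ (S : Subgroup G), s * s = 1 := by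
    intro s hs
    by_cases hs1 : s = 1
    · simp [hs1]
    have hdvd : 2 ∣ Nat.card G := by
      rw [h.card]
      obtain ⟨f, hf, hqf⟩ := h.hq
      rw [hqf]
      exact Dvd.dvd.mul_right (dvd_pow_self 2 hf.ne') _
    obtain ⟨t, ht⟩ := exists_prime_orderOf_dvd_card' 2 hdvd
    have ht1 : t ≠ 1 := fun e => by rw [e, orderOf_one] at ht; omega
    have ht22 : t ^ 2 = 1 := by
      have := pow_orderOf_eq_one t
      rwa [ht] at this
    have ht2 : ∃ k : ℕ, t ^ 2 ^ k = 1 := ⟨1, by rw [pow_one]; exact ht22⟩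
    have e : (⟨cl ⟨s, pel_of_mem S.2 hs, hs1⟩, _, rfl⟩ : Set.range cl) =
        ⟨cl ⟨t, ht2, ht1⟩, _, rfl⟩ :=
      Subsingleton.elim _ _
    obtain ⟨c, hc⟩ := isConj_iff.mp
      (ConjClasses.mk_eq_mk_iff_isConj.mp (congrArg Subtype.val e))
    have h2 : (c * s * c⁻¹) ^ 2 = 1 := (congrArg (· ^ 2) hc).trans ht22
    rw [← sq]; exact (hconjpow c s 2).mp h2
  intro a ha b hb
  have h1 := hsq a ha
  have h2 := hsq b hb
  have h3 := hsq _ (mul_mem ha hb)
  rw [← inv_eq_of_mul_eq_one_right h3, mul_inv_rev, inv_eq_of_mul_eq_one_right h1,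
    inv_eq_of_mul_eq_one_right h2]

end Cfsg.Agent.Lib.PSLClassSize64
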