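import Mathlib
import Cfsg.Agent.Lib.PSLClassSize64.Sylow
import Cfsg.Agent.Lib.Zassenhaus.AbelianKernel
import Cfsg.Agent.Lib.SmallGroups.ProjLine
import Cfsg.Agent.Lib.PrimeGraph.SL2
import Cfsg.Agent.S0731
import Cfsg.Agent.S4702

/-!
# Recognition of `PSL₂(q)` by order and centralizers of `p`-elements

The Sylow `p`-subgroups are abelian, trivial intersection and `q + 1` in number, so the group acts
on them as a Zassenhaus group with abelian kernel.
-/

set_option autoImplicit false
set_option linter.unusedSectionVars false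

namespace Cfsg.Agent.Lib.PSLClassSize64

open MulAction

/-- If all stabilisers have order `c`, then `|H|` divides `c * |Y|`. -/
theorem card_dvd_of_stabilizer {H Y : Type*} [Group H] [Finite H] [Finite Y] [MulAction H Y] (c : ℕ)
    (h : ∀ y : Y, Nat.card (stabilizer H y) = c) : Nat.card H ∣ c * Nat.card Y := by
  have hb : ∀ y : Y, Nat.card (orbit H y) * c = Nat.card H := fun y => by
    rw [← h y, ← Nat.card_prod]
    exact Nat.card_congr (orbitProdStabilizerEquivGroup H y)
  have : Fintype (orbitRel.Quotient H Y) := Fintype.ofFinite _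
  rw [Nat.card_congr (selfEquivSigmaOrbits' H Y), Nat.card_sigma, Finset.mul_sum]
  refine Finset.dvd_sum fun ω _ => ?_
  induction ω using Quotient.inductionOn' with
  | h y => rw [orbitRel.Quotient.orbit_mk, mul_comm]; exact dvd_of_eq (hb y).symm

variable {G : Type*} [Group G] [Finite G] {p q U : ℕ}

theorem CC.q_pos (h : CC G p q U) : 1 < q := by
  obtain ⟨f, hf, rfl⟩ := h.hq
  exact Nat.one_lt_pow hf.ne' h.pp.one_lt

section Action

variable [Fact p.Prime] (h : CC G p q U)
  (hab : ∀ (S : Sylow p G), ∀ a ∈ (S : Subgroup G), ∀ b ∈ (S : Subgroup G), a * b = b * a)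
include h hab

/-- The centraliser of a nontrivial element of a Sylow subgroup is that subgroup. -/
theorem cen_eq_sylow (S : Sylow p G) {s : G} (hs : s ∈ (S : Subgroup G)) (hs1 : s ≠ 1) :
    Subgroup.centralizer ({s} : Set G) = (S : Subgroup G) := by
  refine (Subgroup.eq_of_le_of_card_ge (fun y hy => ?_) (le_of_eq ?_)).symm
  · exact Subgroup.mem_centralizer_singleton_iff.mpr (hab S y hy s hs)
  · obtain ⟨k, hk⟩ := pel_of_mem S.2 hs
    rw [h.cen s k hk hs1, h.card_sylow S]

/-- A nontrivial element of a Sylow subgroup fixes no other one. -/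
theorem fix_unique {S P : Sylow p G} {s : G} (hs : s ∈ (S : Subgroup G)) (hs1 : s ≠ 1)
    (hfix : s • P = P) : P = S := by
  have hsP : s ∈ (P : Subgroup G) := by
    have hN : Subgroup.zpowers s ≤ Subgroup.normalizer ((P : Subgroup G) : Set G) :=
      Subgroup.zpowers_le.mpr (Sylow.smul_eq_iff_mem_normalizer.mp hfix)
    have hzs : IsPGroup p (Subgroup.zpowers s) := S.2.to_le (Subgroup.zpowers_le.mpr hs)
    have hp := P.2.to_sup_of_normal_left' hzs hN
    rw [← P.3 hp le_sup_left]
    exact Subgroup.mem_sup_right (Subgroup.mem_zpowers s)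
  exact Sylow.ext ((cen_eq_sylow h hab P hsP hs1).symm.trans (cen_eq_sylow h hab S hs hs1))

theorem stabilizer_eq (S : Sylow p G) :
    stabilizer G S = Subgroup.normalizer ((S : Subgroup G) : Set G) := by
  ext g
  rw [mem_stabilizer_iff, Sylow.smul_eq_iff_mem_normalizer]
  rfl

/-- `n ≡ 1` modulo `q`. -/
theorem q_dvd_others (S : Sylow p G) : q ∣ Nat.card {P : Sylow p G // P ≠ S} := by
  let act : MulAction (S : Subgroup G) {P : Sylow p G // P ≠ S} :=
    { smul := fun s P => ⟨(s : G) • (P : Sylow p G), fun e => P.2 (by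
        have hS : (s : G)⁻¹ • S = S :=
          Sylow.smul_eq_iff_mem_normalizer.mpr (Subgroup.le_normalizer (inv_mem s.2))
        exact (inv_smul_smul (s : G) _).symm.trans ((congrArg _ e).trans hS))⟩
      one_smul := fun P => Subtype.ext (one_smul G (P : Sylow p G))
      mul_smul := fun a b P => Subtype.ext (mul_smul (a : G) (b : G) (P : Sylow p G)) }
  have h1 := card_dvd_of_stabilizer (H := (S : Subgroup G)) (Y := {P : Sylow p G // P ≠ S}) 1
    fun P => by
      rw [Subgroup.card_eq_one, Subgroup.eq_bot_iff_forall]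
      intro s hs
      by_contra hs1
      exact P.2 (fix_unique h hab s.2 (fun e => hs1 (Subtype.ext e)) (congrArg Subtype.val hs))
  rwa [one_mul, h.card_sylow S] at h1

theorem card_stabilizer_dvd (S : Sylow p G) :
    Nat.card (stabilizer G S) ∣ q * (q - 1) := by
  let Y := {s : G // s ∈ (S : Subgroup G) ∧ s ≠ 1}
  let N := stabilizer G S
  have hN : ∀ n ∈ N, ∀ s ∈ (S : Subgroup G), n * s * n⁻¹ ∈ (S : Subgroup G) := fun n hn s hs =>
    (Subgroup.mem_normalizer_iff.mp (stabilizer_eq h hab S ▸ hn) s).mp hs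
  let act : MulAction N Y :=
    { smul := fun n s => ⟨(n : G) * s * (n : G)⁻¹, hN n n.2 s s.2.1, fun e => s.2.2 (by
        have : (s : G) = (n : G)⁻¹ * ((n : G) * s * (n : G)⁻¹) * n := by group
        rw [this, e]; group)⟩
      one_smul := fun s => Subtype.ext (by change (1 : G) * s * (1 : G)⁻¹ = s; simp)
      mul_smul := fun a b s => Subtype.ext (by
        change ((a * b : N) : G) * s * ((a * b : N) : G)⁻¹ =
          (a : G) * ((b : G) * s * (b : G)⁻¹) * (a : G)⁻¹
        simp only [Subgroup.coe_mul]; group) }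
  have h1 := card_dvd_of_stabilizer (H := N) (Y := Y) q fun s => by
    rw [← h.card_sylow S, ← cen_eq_sylow h hab S s.2.1 s.2.2]
    refine Nat.card_congr ⟨fun n => ⟨((n : N) : G), ?_⟩, fun c => ⟨⟨c, ?_⟩, ?_⟩,
      fun n => rfl, fun c => rfl⟩
    · exact Subgroup.mem_centralizer_singleton_iff.mpr
        (mul_inv_eq_iff_eq_mul.mp (congrArg Subtype.val n.2))
    · change (c : G) ∈ stabilizer G S
      rw [stabilizer_eq h hab S]
      exact Subgroup.le_normalizer ((cen_eq_sylow h hab S s.2.1 s.2.2).le c.2)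
    · exact Subtype.ext (mul_inv_eq_iff_eq_mul.mpr (Subgroup.mem_centralizer_singleton_iff.mp c.2))
  refine h1.trans (dvd_of_eq ?_)
  have e : Y ≃ {s : (S : Subgroup G) // s ≠ 1} :=
    ⟨fun s => ⟨⟨s, s.2.1⟩, fun e => s.2.2 (congrArg Subtype.val e)⟩,
      fun s => ⟨s.1, s.1.2, fun e => s.2 (Subtype.ext e)⟩, fun s => rfl, fun s => rfl⟩
  classical
  have := Fintype.ofFinite (S : Subgroup G)
  rw [Nat.card_congr e, Nat.card_eq_fintype_card, Fintype.card_subtype_compl,
    Fintype.card_subtype_eq, ← Nat.card_eq_fintype_card, h.card_sylow S]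

/-- The number of Sylow subgroups and the order of a Sylow normaliser. -/
theorem counts (S : Sylow p G) :
    ∃ e m : ℕ, 0 < e ∧ e ∣ q - 1 ∧ Nat.card (stabilizer G S) = q * e ∧
      Nat.card (Sylow p G) = q * m + 1 ∧ U = (q * m + 1) * e := by
  have hq := h.q_pos
  obtain ⟨e, he⟩ : q ∣ Nat.card (stabilizer G S) := by
    rw [← h.card_sylow S, stabilizer_eq h hab S]
    exact Subgroup.card_dvd_of_le Subgroup.le_normalizer
  obtain ⟨m, hm⟩ := q_dvd_others h hab S
  have hn : Nat.card (Sylow p G) = q * m + 1 := by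
    classical
    have := Fintype.ofFinite (Sylow p G)
    rw [Nat.card_eq_fintype_card, Fintype.card_subtype_compl, Fintype.card_subtype_eq] at hm
    have h1 : 0 < Fintype.card (Sylow p G) := Fintype.card_pos
    rw [Nat.card_eq_fintype_card]
    omega
  have he0 : 0 < e := by
    have : 0 < Nat.card (stabilizer G S) := Nat.card_pos
    rw [he] at this
    exact pos_of_mul_pos_right this (Nat.zero_le q)
  have hdvd := card_stabilizer_dvd h hab S
  rw [he] at hdvd
  refine ⟨e, m, he0, (Nat.mul_dvd_mul_iff_left (by omega)).mp hdvd, he, hn, ?_⟩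
  have h1 := (stabilizer G S).card_mul_index
  rw [index_stabilizer_of_transitive, hn, he, h.card] at h1
  refine Nat.eq_of_mul_eq_mul_left (by omega : 0 < q) ?_
  rw [← h1]; ring

variable (hn : Nat.card (Sylow p G) = q + 1)
include hn

theorem card_others (S : Sylow p G) : Nat.card {P : Sylow p G // P ≠ S} = q := by
  classical
  have := Fintype.ofFinite (Sylow p G)
  rw [Nat.card_eq_fintype_card, Fintype.card_subtype_compl, Fintype.card_subtype_eq,
    ← Nat.card_eq_fintype_card, hn]
  omega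

/-- A Sylow subgroup is regular on the others. -/
theorem regular (S : Sylow p G) {P P' : Sylow p G} (hP : P ≠ S) (hP' : P' ≠ S) :
    ∃! u : (S : Subgroup G), (u : G) • P = P' := by
  let f : ↥(S : Subgroup G) → {P : Sylow p G // P ≠ S} := fun u => ⟨(u : G) • P, fun e => hP (by
    have hS : (u : G)⁻¹ • S = S :=
      Sylow.smul_eq_iff_mem_normalizer.mpr (Subgroup.le_normalizer (inv_mem u.2))
    exact (inv_smul_smul (u : G) P).symm.trans ((congrArg _ e).trans hS))⟩
  have hinj : Function.Injective f := by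
    intro u v huv
    have h1 : (u : G) • P = (v : G) • P := congrArg Subtype.val huv
    have h2 : ((v : G)⁻¹ * u) • P = P := by rw [mul_smul, h1, inv_smul_smul]
    by_contra hne
    exact hP (fix_unique h hab (mul_mem (inv_mem v.2) u.2)
      (fun e => hne (Subtype.ext (inv_mul_eq_one.mp e).symm)) h2)
  have hbij : Function.Bijective f :=
    (Nat.bijective_iff_injective_and_card f).mpr
      ⟨hinj, (h.card_sylow S).trans (card_others h hab hn S).symm⟩
  obtain ⟨u, hu⟩ := hbij.2 ⟨P', hP'⟩
  exact ⟨u, congrArg Subtype.val hu, fun v hv => hinj ((Subtype.ext hv).trans hu.symm)⟩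

theorem exists_map {A B C D : Sylow p G} (hAB : A ≠ B) (hCD : C ≠ D) :
    ∃ g : G, g • A = C ∧ g • B = D := by
  obtain ⟨g, hg⟩ := exists_smul_eq G A C
  have hne : g • B ≠ C := fun e => hAB (MulAction.injective g (hg.trans e.symm))
  obtain ⟨u, hu, -⟩ := regular h hab hn C hne hCD.symm
  refine ⟨u * g, ?_, by rw [mul_smul]; exact hu⟩
  rw [mul_smul, hg]
  exact Sylow.smul_eq_iff_mem_normalizer.mpr (Subgroup.le_normalizer u.2)

/-- No nontrivial element fixes three Sylow subgroups. -/
theorem three {g : G} {A B C : Sylow p G} (hAB : A ≠ B) (hBC : B ≠ C) (hAC : A ≠ C)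
    (hA : g • A = A) (hB : g • B = B) (hC : g • C = C) : g = 1 := by
  obtain ⟨u, hu, -⟩ := regular h hab hn A hAB.symm hAC.symm
  have hu1 : (u : G) ≠ 1 := fun e => hBC (by rw [← hu, e, one_smul])
  have hgN : g ∈ Subgroup.normalizer ((A : Subgroup G) : Set G) :=
    Sylow.smul_eq_iff_mem_normalizer.mp hA
  set v := (u : G)⁻¹ * (g * u * g⁻¹) with hv
  have hvA : v ∈ (A : Subgroup G) :=
    mul_mem (inv_mem u.2) ((Subgroup.mem_normalizer_iff.mp hgN u).mp u.2)
  have hvB : v • B = B := by
    have hgi : g⁻¹ • B = B := inv_smul_eq_iff.mpr hB.symm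
    rw [hv, mul_smul, mul_smul, mul_smul, hgi, hu, hC, inv_smul_eq_iff, hu]
  have hv1 : v = 1 := by
    by_contra hv1
    exact hAB.symm (fix_unique h hab hvA hv1 hvB)
  have hgC : g ∈ (A : Subgroup G) := by
    rw [← cen_eq_sylow h hab A u.2 hu1, Subgroup.mem_centralizer_singleton_iff]
    exact (mul_inv_eq_iff_eq_mul.mp (inv_mul_eq_one.mp hv1).symm)
  by_contra hg1
  exact hAB.symm (fix_unique h hab hgC hg1 hB)

theorem card_pair {A B : Sylow p G} (hAB : A ≠ B) {e : ℕ}
    (he : Nat.card (stabilizer G A) = q * e) :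
    Nat.card ↥(stabilizer G A ⊓ stabilizer G B) = e := by
  have hq := h.q_pos
  have hbij : Function.Bijective (fun x : ↥(A : Subgroup G) × ↥(stabilizer G A ⊓ stabilizer G B) =>
      (⟨(x.1 : G) * x.2, mul_mem
        (mem_stabilizer_iff.mpr (Sylow.smul_eq_iff_mem_normalizer.mpr
          (Subgroup.le_normalizer x.1.2))) (Subgroup.mem_inf.mp x.2.2).1⟩ : stabilizer G A)) := by
    constructor
    · rintro ⟨u, d⟩ ⟨u', d'⟩ hh
      have h1 : (u : G) * d = u' * d' := congrArg Subtype.val hh
      have h2 : (u : G) • B = (u' : G) • B := by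
        calc (u : G) • B = ((u : G) * d) • B := by
              rw [mul_smul, mem_stabilizer_iff.mp (Subgroup.mem_inf.mp d.2).2]
          _ = ((u' : G) * d') • B := by rw [h1]
          _ = (u' : G) • B := by rw [mul_smul, mem_stabilizer_iff.mp (Subgroup.mem_inf.mp d'.2).2]
      have hne : (u : G) • B ≠ A := fun e => hAB.symm (MulAction.injective (u : G) (e.trans
        (Sylow.smul_eq_iff_mem_normalizer.mpr (Subgroup.le_normalizer u.2)).symm))
      obtain ⟨w, -, huniq⟩ := regular h hab hn A hAB.symm hne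
      obtain rfl : u = u' := (huniq u rfl).trans (huniq u' h2.symm).symm
      exact Prod.ext rfl (Subtype.ext (mul_left_cancel h1))
    · rintro ⟨n, hn'⟩
      have hA : n • A = A := hn'
      have hne : n • B ≠ A := fun e => hAB.symm (MulAction.injective n (e.trans hA.symm))
      obtain ⟨u, hu, -⟩ := regular h hab hn A hAB.symm hne
      have huA : (u : G) • A = A :=
        Sylow.smul_eq_iff_mem_normalizer.mpr (Subgroup.le_normalizer u.2)
      refine ⟨(u, ⟨(u : G)⁻¹ * n, Subgroup.mem_inf.mpr ⟨?_, ?_⟩⟩), Subtype.ext (by simp)⟩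
      · rw [mem_stabilizer_iff, mul_smul, hA, inv_smul_eq_iff, huA]
      · rw [mem_stabilizer_iff, mul_smul, inv_smul_eq_iff, hu]
  have h1 := Nat.card_eq_of_bijective _ hbij
  rw [Nat.card_prod, h.card_sylow A, he] at h1
  exact Nat.eq_of_mul_eq_mul_left (by omega) h1

/-- The action on the Sylow subgroups is a Zassenhaus group. -/
theorem zassenhaus (S : Sylow p G) {e : ℕ} (he : Nat.card (stabilizer G S) = q * e) (he2 : 2 ≤ e)
    (hreg : ∀ (l k : ℕ) (r : G), l.Prime → q + 1 = l ^ k → r ^ l = 1 → r ≠ 1 →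
      Nat.card (Subgroup.centralizer ({r} : Set G)) ≠ U) :
    Cfsg.IsZassenhausGroup G (Sylow p G) := by
  have hq := h.q_pos
  obtain ⟨P, hPS⟩ : ∃ P : Sylow p G, P ≠ S := by
    have h1 : 0 < Nat.card {P : Sylow p G // P ≠ S} := by rw [card_others h hab hn S]; omega
    obtain ⟨⟨P, hP⟩⟩ := (Nat.card_pos_iff.mp h1).1
    exact ⟨P, hP⟩
  have hS1 : (S : Subgroup G) ≠ ⊥ := fun e => by
    have := h.card_sylow S
    rw [e, Subgroup.card_bot] at this
    omega
  obtain ⟨s₀, hs₀, hs₀1⟩ := (Subgroup.bot_or_exists_ne_one _).resolve_left hS1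
  refine ⟨⟨fun {g g'} hgg => ?_⟩,
    is_two_pretransitive_iff.mpr fun hab' hcd => exists_map h hab hn hab' hcd,
    fun g a b c => three h hab hn, ?_, ?_⟩
  · -- faithful
    have hk : ∀ X : Sylow p G, (g'⁻¹ * g) • X = X := fun X => by
      rw [mul_smul, hgg X, inv_smul_smul]
    generalize hgk : g'⁻¹ * g = k at hk
    suffices k = 1 by rw [← hgk, inv_mul_eq_one] at this; exact this.symm
    by_contra hk1
    have hkN := Sylow.smul_eq_iff_mem_normalizer.mp (hk S)
    have hcS : k * s₀ * k⁻¹ * s₀⁻¹ ∈ (S : Subgroup G) :=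
      mul_mem ((Subgroup.mem_normalizer_iff.mp hkN s₀).mp hs₀) (inv_mem hs₀)
    have hcP : (k * s₀ * k⁻¹ * s₀⁻¹) • P = P := by
      rw [mul_smul, mul_smul, mul_smul]
      have hki : ∀ X : Sylow p G, k⁻¹ • X = X := fun X => inv_smul_eq_iff.mpr (hk X).symm
      rw [hki, smul_inv_smul, hk]
    have hc1 : k * s₀ * k⁻¹ * s₀⁻¹ = 1 := by
      by_contra hc
      exact hPS (fix_unique h hab hcS hc hcP)
    have hkS : k ∈ (S : Subgroup G) := by
      rw [← cen_eq_sylow h hab S hs₀ hs₀1, Subgroup.mem_centralizer_singleton_iff]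
      exact mul_inv_eq_iff_eq_mul.mp (mul_inv_eq_one.mp hc1)
    exact hPS (fix_unique h hab hkS hk1 (hk P))
  · -- an element fixing two points
    have hD := card_pair h hab hn hPS.symm he
    have : Nontrivial ↥(stabilizer G S ⊓ stabilizer G P) :=
      Finite.one_lt_card_iff_nontrivial.mp (by omega)
    obtain ⟨d, hd⟩ := exists_ne (1 : ↥(stabilizer G S ⊓ stabilizer G P))
    exact ⟨d, fun e => hd (Subtype.ext e), S, P, hPS.symm, (Subgroup.mem_inf.mp d.2).1,
      (Subgroup.mem_inf.mp d.2).2⟩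
  · -- no regular normal subgroup
    intro R hR htr
    by_contra hcon
    simp only [ne_eq, not_exists, not_not] at hcon
    have hRc : Nat.card R = q + 1 := by
      rw [← hn, ← index_stabilizer_of_transitive (G := R) S, hcon S, Subgroup.index_bot]
    have hRS : ∀ x ∈ (S : Subgroup G), x ∈ R → x = 1 := fun x hxS hxR => by
      have h1 : (⟨x, hxR⟩ : R) ∈ stabilizer R S :=
        Sylow.smul_eq_iff_mem_normalizer.mpr (Subgroup.le_normalizer hxS)
      rw [hcon S, Subgroup.mem_bot] at h1
      exact congrArg Subtype.val h1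
    have : Nontrivial R := Finite.one_lt_card_iff_nontrivial.mp (by omega)
    obtain ⟨⟨r₀, hr₀R⟩, hr₀⟩ := exists_ne (1 : R)
    obtain ⟨l, hl, hld⟩ := Nat.exists_prime_and_dvd (show Nat.card R ≠ 1 by omega)
    have := Fact.mk hl
    obtain ⟨⟨r, hrR⟩, hr⟩ := exists_prime_orderOf_dvd_card' (G := R) l hld
    have hrl : r ^ l = 1 := by
      have := pow_orderOf_eq_one (⟨r, hrR⟩ : R)
      rw [hr] at this
      exact congrArg Subtype.val this
    have hr1 : r ≠ 1 := fun e => by
      subst e
      rw [Subgroup.orderOf_mk, orderOf_one] at hr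
      exact hl.one_lt.ne hr
    -- `S` is transitive on the nontrivial elements of `R`
    let f : ↥(S : Subgroup G) → {x : R // x ≠ 1} := fun u =>
      ⟨⟨(u : G) * r * (u : G)⁻¹, hR.conj_mem r hrR u⟩, fun e => hr1 (by
        have e1 : (u : G) * r * (u : G)⁻¹ = 1 := congrArg Subtype.val e
        rwa [mul_inv_eq_one, mul_eq_left] at e1)⟩
    have hfi : Function.Injective f := by
      intro u v huv
      have h1 : (u : G) * r * (u : G)⁻¹ = v * r * (v : G)⁻¹ :=
        congrArg (fun x : {x : R // x ≠ 1} => ((x : R) : G)) huv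
      by_contra hne
      have hw : (v : G)⁻¹ * u ≠ 1 := fun e => hne (Subtype.ext (inv_mul_eq_one.mp e).symm)
      have hcom : r ∈ Subgroup.centralizer ({(v : G)⁻¹ * u} : Set G) := by
        rw [Subgroup.mem_centralizer_singleton_iff]
        calc r * ((v : G)⁻¹ * u) = (v : G)⁻¹ * (v * r * (v : G)⁻¹) * u := by group
          _ = (v : G)⁻¹ * (u * r * (u : G)⁻¹) * u := by rw [h1]
          _ = (v : G)⁻¹ * u * r := by group
      rw [cen_eq_sylow h hab S (mul_mem (inv_mem v.2) u.2) hw] at hcom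
      exact hr1 (hRS r hcom hrR)
    have hcardR : Nat.card {x : R // x ≠ 1} = q := by
      classical
      have := Fintype.ofFinite R
      rw [Nat.card_eq_fintype_card, Fintype.card_subtype_compl, Fintype.card_subtype_eq,
        ← Nat.card_eq_fintype_card, hRc]
      omega
    have hfs : Function.Surjective f :=
      ((Nat.bijective_iff_injective_and_card f).mpr
        ⟨hfi, (h.card_sylow S).trans hcardR.symm⟩).2
    -- so `R` is elementary
    have hRl : IsPGroup l R := by
      intro x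
      refine ⟨1, ?_⟩
      by_cases hx : x = 1
      · simp [hx]
      obtain ⟨u, hu⟩ := hfs ⟨x, hx⟩
      apply Subtype.ext
      have h1 : (u : G) * r * (u : G)⁻¹ = (x : G) :=
        congrArg (fun x : {x : R // x ≠ 1} => ((x : R) : G)) hu
      rw [pow_one, Subgroup.coe_pow, ← h1, conj_pow, hrl]
      simp
    obtain ⟨k, hk⟩ := IsPGroup.iff_card.mp hRl
    refine hreg l k r hl (hRc.symm.trans hk) hrl hr1 ?_
    -- the class of `r` has size `q`
    set C := Subgroup.centralizer ({r} : Set G) with hC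
    have hCidx : C.index = q := by
      apply le_antisymm
      · rw [Subgroup.index_eq_card, ← hcardR]
        refine Nat.card_le_card_of_injective (fun c : G ⧸ C =>
          (⟨⟨c.out * r * c.out⁻¹, hR.conj_mem r hrR c.out⟩, fun e => hr1 (by
            have e1 : c.out * r * c.out⁻¹ = 1 := congrArg Subtype.val e
            rwa [mul_inv_eq_one, mul_eq_left] at e1)⟩ : {x : R // x ≠ 1})) ?_
        intro c d hcd
        have h1 : c.out * r * c.out⁻¹ = d.out * r * d.out⁻¹ :=
          congrArg (fun x : {x : R // x ≠ 1} => ((x : R) : G)) hcd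
        rw [← QuotientGroup.out_eq' c, ← QuotientGroup.out_eq' d, QuotientGroup.eq]
        refine Subgroup.mem_centralizer_singleton_iff.mpr ?_
        calc c.out⁻¹ * d.out * r = c.out⁻¹ * (d.out * r * d.out⁻¹) * d.out := by group
          _ = c.out⁻¹ * (c.out * r * c.out⁻¹) * d.out := by rw [h1]
          _ = r * (c.out⁻¹ * d.out) := by group
      · rw [← h.card_sylow S, Subgroup.index_eq_card]
        refine Nat.card_le_card_of_injective (fun u : (S : Subgroup G) => ((u : G) : G ⧸ C)) ?_
        intro u v huv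
        apply hfi
        apply Subtype.ext
        apply Subtype.ext
        have h1 : (u : G)⁻¹ * v ∈ C := QuotientGroup.eq.mp huv
        rw [hC, Subgroup.mem_centralizer_singleton_iff] at h1
        change (u : G) * r * (u : G)⁻¹ = v * r * (v : G)⁻¹
        calc (u : G) * r * (u : G)⁻¹ = u * (r * ((u : G)⁻¹ * v)) * (v : G)⁻¹ := by group
          _ = u * ((u : G)⁻¹ * v * r) * (v : G)⁻¹ := by rw [h1]
          _ = v * r * (v : G)⁻¹ := by group
    have h1 := C.card_mul_index
    rw [hCidx, h.card, mul_comm] at h1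
    exact Nat.eq_of_mul_eq_mul_left (by omega) h1

end Action

/-- The odd case. -/
theorem CC.iso_psl_odd (h : CC G p q U) (hp2 : p ≠ 2) (hU : 2 * U + 1 = q * q) (hq5 : 5 ≤ q)
    (hreg : ∀ (l k : ℕ) (r : G), l.Prime → q + 1 = l ^ k → r ^ l = 1 → r ≠ 1 →
      Nat.card (Subgroup.centralizer ({r} : Set G)) ≠ U)
    {F : Type*} [Field F] [Fintype F] (hF : Fintype.card F = q) :
    Nonempty (G ≃* Matrix.ProjectiveSpecialLinearGroup (Fin 2) F) := by
  have := Fact.mk h.pp
  have hab := h.abelian_of_odd hp2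
  obtain ⟨S⟩ : Nonempty (Sylow p G) := inferInstance
  obtain ⟨e, m, he0, hed, he, hn, hUe⟩ := counts h hab S
  have he1 : e ≤ q - 1 := Nat.le_of_dvd (by omega) hed
  have heq : 2 * e + 1 = q := by
    have h1 : (q : ℤ) ∣ 2 * e + 1 := ⟨q - 2 * m * e, by
      have : (2 : ℤ) * ((q * m + 1) * e) + 1 = q * q := by exact_mod_cast hUe ▸ hU
      linear_combination this⟩
    obtain ⟨c, hc⟩ := (Int.natCast_dvd_natCast.mp (by exact_mod_cast h1) : q ∣ 2 * e + 1)
    have : c < 2 := by
      by_contra hc2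
      have : q * 2 ≤ q * c := Nat.mul_le_mul_left q (by omega)
      omega
    interval_cases c <;> omega
  have hm : Nat.card (Sylow p G) = q + 1 := by
    rw [hn]
    have : 2 * ((q * m + 1) * e) + 1 = q * q := hUe ▸ hU
    have h2 : 2 * e * (q * m + 1) = 2 * e * (q + 1) := by nlinarith [heq, this]
    exact Nat.eq_of_mul_eq_mul_left (by omega) h2
  have hZ := zassenhaus h hab hm S he (by omega) hreg
  have hF' : ((S : Subgroup G).subgroupOf (stabilizer G S)).Normal :=
    ⟨fun a ha g => (Subgroup.mem_normalizer_iff.mp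
      (Sylow.smul_eq_iff_mem_normalizer.mp g.2) (a : G)).mp ha⟩
  rcases Cfsg.Agent.S0731.result hZ S (S : Subgroup G) (fun u hu =>
      Sylow.smul_eq_iff_mem_normalizer.mpr (Subgroup.le_normalizer hu)) hF'
      ⟨⟨fun a b => Subtype.ext (hab S a a.2 b b.2)⟩⟩
      (fun y z hy hz => regular h hab hm S hy hz) with ⟨h3, -⟩ | ⟨K, iK, iK', hK2, ⟨φ⟩⟩
  · -- sharply triply transitive is impossible
    exfalso
    classical
    have := Fintype.ofFinite (Sylow p G)
    obtain ⟨P, hP⟩ : ∃ P : Sylow p G, P ≠ S := Fintype.exists_ne_of_one_lt_card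
      (by rw [← Nat.card_eq_fintype_card, hm]; omega) S
    obtain ⟨C, hCS, hCP⟩ := Lib.Zassenhaus.exists_third hZ S P
    have hD := card_pair h hab hm hP.symm he
    have hsur : Function.Surjective (fun d : ↥(stabilizer G S ⊓ stabilizer G P) =>
        (⟨(d : G) • C, fun e => hCS (MulAction.injective (d : G) (e.trans
            (mem_stabilizer_iff.mp (Subgroup.mem_inf.mp d.2).1).symm)),
          fun e => hCP (MulAction.injective (d : G) (e.trans
            (mem_stabilizer_iff.mp (Subgroup.mem_inf.mp d.2).2).symm))⟩ :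
          {X : Sylow p G // X ≠ S ∧ X ≠ P})) := by
      rintro ⟨X, hXS, hXP⟩
      let x : Fin 3 ↪ Sylow p G := ⟨![S, P, C], by
        intro i j; fin_cases i <;> fin_cases j <;> simp [hP, hP.symm, hCS, hCS.symm, hCP, hCP.symm]⟩
      let y : Fin 3 ↪ Sylow p G := ⟨![S, P, X], by
        intro i j; fin_cases i <;> fin_cases j <;> simp [hP, hP.symm, hXS, hXS.symm, hXP, hXP.symm]⟩
      obtain ⟨g, hg⟩ := h3.exists_smul_eq x y
      have hg' := fun i => DFunLike.congr_fun hg i
      exact ⟨⟨g, Subgroup.mem_inf.mpr ⟨hg' 0, hg' 1⟩⟩, Subtype.ext (hg' 2)⟩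
    have h1 := Nat.card_le_card_of_surjective _ hsur
    rw [hD, Nat.card_eq_fintype_card, Fintype.card_subtype] at h1
    rw [show (Finset.univ.filter fun X : Sylow p G => X ≠ S ∧ X ≠ P) =
      (Finset.univ \ {S, P}) by ext X; simp, Finset.card_sdiff_of_subset (Finset.subset_univ _),
      Finset.card_pair hP.symm, Finset.card_univ, ← Nat.card_eq_fintype_card, hm] at h1
    omega
  · have hKodd : Odd (Fintype.card K) := Nat.odd_iff.mpr (FiniteField.odd_card_of_char_ne_two hK2)
    have hc := Lib.Linear.two_mul_card_PSL_two_of_odd (F := K) hKodd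
    rw [← Nat.card_congr φ.toEquiv, h.card] at hc
    have hQ : Fintype.card K = q := by
      have hQ1 := Fintype.one_lt_card (α := K)
      obtain ⟨Q, hQ⟩ : ∃ Q, Fintype.card K = Q + 1 := ⟨_, (Nat.sub_add_cancel hQ1.le).symm⟩
      rw [hQ] at hc ⊢
      simp only [Nat.add_sub_cancel] at hc
      rcases Nat.lt_trichotomy (Q + 1) q with hlt | heq' | hgt
      · exfalso; nlinarith [hc, hU, Nat.mul_le_mul hlt.le hlt.le]
      · exact heq'
      · exfalso; nlinarith [hc, hU, Nat.mul_le_mul hgt.le hgt.le]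
    obtain ⟨ψ⟩ := SmallGroups.ProjLine.psl_congr_card (hQ.trans hF.symm)
    exact ⟨φ.trans ψ⟩

/-- The even case. -/
theorem CC.iso_psl_even (h : CC G 2 q U) (hU : U + 1 = q * q) (hq4 : 4 ≤ q)
    (hreg : ∀ (l k : ℕ) (r : G), l.Prime → q + 1 = l ^ k → r ^ l = 1 → r ≠ 1 →
      Nat.card (Subgroup.centralizer ({r} : Set G)) ≠ U)
    {F : Type*} [Field F] [Fintype F] (hF : Fintype.card F = q) :
    Nonempty (G ≃* Matrix.ProjectiveSpecialLinearGroup (Fin 2) F) := by
  classical
  have := Fact.mk Nat.prime_two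
  have hab := h.abelian_of_two hU
  obtain ⟨S⟩ : Nonempty (Sylow 2 G) := inferInstance
  obtain ⟨e, m, he0, hed, he, hn, hUe⟩ := counts h hab S
  have he1 : e ≤ q - 1 := Nat.le_of_dvd (by omega) hed
  have heq : e + 1 = q := by
    have h1 : (q : ℤ) ∣ e + 1 := ⟨q - m * e, by
      have : ((q * m + 1) * e : ℤ) + 1 = q * q := by exact_mod_cast hUe ▸ hU
      linear_combination this⟩
    have h1' : q ∣ e + 1 := Int.natCast_dvd_natCast.mp (by exact_mod_cast h1)
    have := Nat.le_of_dvd (by omega) h1'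
    omega
  have hm : Nat.card (Sylow 2 G) = q + 1 := by
    rw [hn]
    have : (q * m + 1) * e + 1 = q * q := hUe ▸ hU
    have h2 : e * (q * m + 1) = e * (q + 1) := by nlinarith [heq, this]
    exact Nat.eq_of_mul_eq_mul_left he0 h2
  have hZ := zassenhaus h hab hm S he (by omega) hreg
  have := Fintype.ofFinite (Sylow 2 G)
  have hqe : Even q := by
    obtain ⟨f, hf, hqf⟩ := h.hq
    rw [hqf]; exact (Nat.even_pow).mpr ⟨even_two, hf.ne'⟩
  obtain ⟨P, hP⟩ : ∃ P : Sylow 2 G, P ≠ S := Fintype.exists_ne_of_one_lt_card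
    (by rw [← Nat.card_eq_fintype_card, hm]; omega) S
  have hD := card_pair h hab hm hP.symm he
  obtain ⟨h3, -⟩ := Lib.Zassenhaus.sharply_of_card hZ hP.symm (by rw [hD, hm]; omega)
  have := hZ.1
  have hinj : Function.Injective (MulAction.toPermHom G (Sylow 2 G)) := fun g g' e =>
    eq_of_smul_eq_smul fun w : Sylow 2 G => congrArg (fun f : Equiv.Perm (Sylow 2 G) => f w) e
  let H := (MulAction.toPermHom G (Sylow 2 G)).range
  have hH3 : IsMultiplyPretransitive H (Sylow 2 G) 3 := ⟨fun x y => by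
    obtain ⟨g, hg⟩ := h3.exists_smul_eq x y
    exact ⟨⟨_, g, rfl⟩,
      Function.Embedding.ext fun i => congrArg (fun t : Fin 3 ↪ Sylow 2 G => t i) hg⟩⟩
  have hfix : ∀ g : H, 3 ≤ Nat.card (fixedBy (Sylow 2 G) g) → g = 1 := by
    rintro ⟨_, g, rfl⟩ hg
    rw [Nat.card_eq_fintype_card] at hg
    obtain ⟨⟨x, hx⟩, ⟨y, hy⟩, ⟨z, hz⟩, h1, h2, h4⟩ := Fintype.two_lt_card_iff.1 hg
    have e : g = 1 := Lib.Zassenhaus.eq_one_of_three hZ (fun e => h1 (Subtype.ext e))
      (fun e => h4 (Subtype.ext e)) (fun e => h2 (Subtype.ext e)) hx hy hz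
    subst e
    exact Subtype.ext (map_one _)
  obtain ⟨k, -, hΩ, K, iK, iK', hK, ⟨φ⟩⟩ := Cfsg.Agent.S4702.result
    (by rw [← Nat.card_eq_fintype_card, hm]; omega)
    (by rw [← Nat.card_eq_fintype_card, hm]; exact hqe.add_one) H hH3 hfix
  have : CharP K 2 := charP_of_card_eq_prime_pow (f := k) hK
  have hKq : Fintype.card K = Fintype.card F := by
    rw [← Nat.card_eq_fintype_card, hm] at hΩ
    omega
  obtain ⟨ψ⟩ := SmallGroups.ProjLine.psl_congr_card hKq
  exact ⟨(((MonoidHom.ofInjective hinj).trans φ).trans PrimeGraph.SL2.slEquivPSL).trans ψ⟩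

end Cfsg.Agent.Lib.PSLClassSize64
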