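import Mathlib
import Cfsg.Agent.Lib.PSLTwo.ClassSizeValues
import Cfsg.Agent.Lib.Linear.Simple
import Cfsg.Agent.Lib.PSLClassSize64.Lattice

/-!
# The class sizes of `PSL₂(q)`

* `exists_abelian_part` : centralizers are abelian or contain an abelian subgroup of index two;
* `isConj_of_small` : for odd `q` the involutions form one class;
* `exists_param`, `sizeAxioms_odd`, `sizeAxioms_even` : the arithmetic of the class sizes.
-/

set_option autoImplicit false
set_option linter.unusedSectionVars false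

namespace Cfsg.Agent.Lib.PSLClassSize64

open Cfsg.Agent.Lib.PSLTwo.Sylow Cfsg.Agent.Lib.PSLTwo.ClassSize
open Cfsg.Agent.Lib.PSLTwo.ClassSizeValues
open Cfsg.Agent.Lib.SL2Tori Cfsg.Agent.Lib.SL2Tori.Products
open Cfsg.Agent.Lib.ClassSizes.CopTools

section Grp

variable {F : Type*} [Field F] [Fintype F]

local notation "SL" => Matrix.SpecialLinearGroup (Fin 2) F
local notation "PSL" => Matrix.ProjectiveSpecialLinearGroup (Fin 2) F

/-- A centraliser has an abelian subgroup whose complement lies in one coset. -/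
theorem exists_abelian_part {x : PSL} (hx : x ≠ 1) :
    ∃ A : Subgroup PSL, (∀ u ∈ A, ∀ v ∈ A, u * v = v * u) ∧
      ∀ u v : PSL, u * x = x * u → v * x = x * v → u ∉ A → v ∉ A → u⁻¹ * v ∈ A := by
  obtain ⟨g, rfl⟩ := proj_surjective x
  have hg := nonScalar_of_proj_ne_one hx
  refine ⟨(torus g).map proj, ?_, ?_⟩
  · rintro _ ⟨a, ha, rfl⟩ _ ⟨b, hb, rfl⟩
    rw [← map_mul, ← map_mul, commute_of_commute hg (mem_torus.mp ha) (mem_torus.mp hb)]
  · intro u v hu hv huA hvA
    obtain ⟨a, rfl⟩ := proj_surjective u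
    obtain ⟨b, rfl⟩ := proj_surjective v
    have key : ∀ c : SL, proj c * proj g = proj g * proj c → proj c ∉ (torus g).map proj →
        c * g = g * c * negOne := by
      intro c hc hcA
      rw [← map_mul, ← map_mul, eq_comm, proj_eq_iff] at hc
      rcases hc with hc | hc
      · exact absurd ⟨c, mem_torus.mpr hc, rfl⟩ hcA
      · exact hc
    have ha := key a hu huA
    have hb := key b hv hvA
    refine ⟨a⁻¹ * b, mem_torus.mpr ?_, by rw [map_mul, map_inv]⟩
    have ha' : a⁻¹ * g = g * a⁻¹ * negOne := by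
      have h1 : g * negOne = a⁻¹ * g * a := by
        rw [mul_assoc, eq_inv_mul_iff_mul_eq]
        calc a * (g * negOne) = a * g * negOne := by group
          _ = g * a * negOne * negOne := by rw [ha]
          _ = g * a := by rw [mul_assoc, negOne_sq, mul_one]
      calc a⁻¹ * g = a⁻¹ * g * a * a⁻¹ := by group
        _ = g * negOne * a⁻¹ := by rw [h1]
        _ = g * a⁻¹ * negOne := by rw [mul_assoc, negOne_central, ← mul_assoc]
    calc a⁻¹ * b * g = a⁻¹ * (g * b * negOne) := by rw [mul_assoc, hb]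
      _ = a⁻¹ * g * b * negOne := by group
      _ = g * a⁻¹ * negOne * b * negOne := by rw [ha']
      _ = g * a⁻¹ * b * (negOne * negOne) := by
          rw [mul_assoc (g * a⁻¹) negOne b, negOne_central b]; group
      _ = g * (a⁻¹ * b) := by rw [negOne_sq, mul_one, mul_assoc]

theorem center_eq_bot (h4 : 4 ≤ Fintype.card F) : Subgroup.center PSL = ⊥ := by
  have : IsSimpleGroup PSL :=
    Linear.isSimpleGroup_PSL le_rfl fun _ => by rwa [Nat.card_eq_fintype_card]
  refine (Subgroup.Normal.eq_bot_or_eq_top inferInstance).resolve_right fun htop => ?_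
  obtain ⟨r, hr, hr2⟩ := exists_r h4
  obtain ⟨g, hgt, hg⟩ := exists_split hr hr2
  have hc : ∀ x y : PSL, x * y = y * x := fun x y =>
    (Subgroup.mem_center_iff.mp (htop.ge (Subgroup.mem_top y)) x)
  have h1 := index_mul_card_pre g
  have htop' : (Subgroup.centralizer {proj g}).index = 1 := by
    rw [Subgroup.index_eq_one, eq_top_iff]
    exact fun y _ => Subgroup.mem_centralizer_singleton_iff.mpr (hc y (proj g))
  rw [htop', one_mul] at h1
  have h2 : Nat.card (pre g) ≤ 2 * Nat.card (torus g) := by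
    by_cases h20 : (2 : F) = 0
    · rw [pre_eq_torus (Or.inr h20)]; omega
    · by_cases ht : slTr g = 0
      · exact (card_pre_zero h20 ht).le
      · rw [pre_eq_torus (Or.inl (mul_ne_zero h20 ht))]; omega
  rw [h1, hg] at h2
  have h3 : 2 * (Fintype.card F - 1) < Fintype.card F * (Fintype.card F - 1) * (Fintype.card F + 1) := by
    have h5 : 4 * (Fintype.card F - 1) ≤ Fintype.card F * (Fintype.card F - 1) :=
      Nat.mul_le_mul_right _ h4
    have h6 : Fintype.card F * (Fintype.card F - 1) * 1 ≤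
        Fintype.card F * (Fintype.card F - 1) * (Fintype.card F + 1) :=
      Nat.mul_le_mul_left _ (by omega)
    omega
  omega

/-- The elements of smallest class size are conjugate. -/
theorem isConj_of_small {a c : ℕ} (hodd : ¬ 2 ∣ Fintype.card F) (h7 : 7 ≤ Fintype.card F)
    (hq : 2 * Fintype.card F = a + 2 * c) (hac : a + 2 = 2 * c ∨ a = 2 * c + 2)
    (hU : 2 * (a * c) + 1 = Fintype.card F * Fintype.card F) {x y : PSL}
    (hx : (Subgroup.centralizer {x}).index = Fintype.card F * c)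
    (hy : (Subgroup.centralizer {y}).index = Fintype.card F * c) : IsConj x y := by
  have h20 : (2 : F) ≠ 0 := fun h => hodd (cast_two_zero_iff.mp h)
  set q := Fintype.card F with hqdef
  have hc0 : 0 < c := by omega
  have key : ∀ z : PSL, (Subgroup.centralizer {z}).index = q * c →
      ∃ g : SL, proj g = z ∧ NonScalar g ∧ slTr g = 0 := by
    intro z hz
    obtain ⟨g, rfl⟩ := proj_surjective z
    have hne : proj g ≠ 1 := fun e => by
      rw [e, index_centralizer_one] at hz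
      have : q * 1 ≤ q * c := Nat.mul_le_mul_left q hc0
      omega
    refine ⟨g, rfl, nonScalar_of_proj_ne_one hne, ?_⟩
    by_contra ht
    have h1 := index_mul_card_pre g
    rw [hz, pre_eq_torus (Or.inl (mul_ne_zero h20 ht))] at h1
    have h2 : q * (q - 1) * (q + 1) = q * c * (2 * a) := by
      obtain ⟨n, hn⟩ : ∃ n, q = n + 1 := ⟨q - 1, by omega⟩
      rw [hn] at hU ⊢
      simp only [Nat.add_sub_cancel]
      nlinarith [hU]
    rw [h2] at h1
    have h3 : Nat.card (torus g) = 2 * a :=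
      Nat.eq_of_mul_eq_mul_left (Nat.mul_pos (by omega) hc0) h1
    rcases card_torus_cases (nonScalar_of_proj_ne_one hne) with ⟨-, h⟩ | ⟨-, -, h⟩ | ⟨-, -, h⟩
    · rw [card_sqrt_one h20, h3] at h; omega
    · rw [h3] at h; omega
    · rw [h3] at h; omega
  obtain ⟨g, rfl, -, hgt⟩ := key x hx
  obtain ⟨g', rfl, -, hgt'⟩ := key y hy
  have h4 : slTr g ^ 2 ≠ 4 := by
    rw [hgt]
    intro h
    exact h20 (mul_self_eq_zero.mp (by linear_combination -h))
  obtain ⟨w, hw⟩ := exists_conj (by omega : q % 2 = 1) h20 h4 (b := g') (by rw [hgt', hgt])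
  exact isConj_iff.mpr ⟨proj w, by rw [← map_inv, ← map_mul, ← map_mul, hw]⟩

/-- The parameters `a`, `c` of the class sizes for odd `q`. -/
theorem exists_param (hodd : ¬ 2 ∣ Fintype.card F) (h7 : 7 ≤ Fintype.card F) :
    ∃ a c : ℕ, ¬ 2 ∣ c ∧ 3 ≤ c ∧ 2 ∣ a ∧ 4 ≤ a ∧ (a + 2 = 2 * c ∨ a = 2 * c + 2) ∧
      2 * Fintype.card F = a + 2 * c ∧ 2 * (a * c) + 1 = Fintype.card F * Fintype.card F ∧
      Set.range (fun g : PSL => (Subgroup.centralizer ({g} : Set PSL)).index) =
        {1, a * c, Fintype.card F * c, 2 * (Fintype.card F * c), Fintype.card F * a} := by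
  obtain ⟨k, hk | hk⟩ : ∃ k, Fintype.card F = 4 * k + 1 ∨ Fintype.card F = 4 * k + 3 :=
    ⟨Fintype.card F / 4, by omega⟩
  · refine ⟨4 * k, 2 * k + 1, by omega, by omega, by omega, by omega, Or.inl (by omega), by omega,
      by rw [hk]; ring, ?_⟩
    have h := odd_range (F := F) hodd h7 (Fintype.card F * (2 * k + 1)) (Fintype.card F - 1) (by
      rw [hk]; simp only [Nat.add_sub_cancel]; ring) (by omega)
      (fun g hg ht => torus_zero_one hodd (by omega) hg ht)
    rw [h, hk]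
    have e1 : ((4 * k + 1) ^ 2 - 1) / 2 = 4 * k * (2 * k + 1) := by
      have : (4 * k + 1) ^ 2 = 2 * (4 * k * (2 * k + 1)) + 1 := by ring
      omega
    have e2 : (4 * k + 1) * (4 * k + 1 + 1) = 2 * ((4 * k + 1) * (2 * k + 1)) := by ring
    rw [e1, e2, Nat.add_sub_cancel]
    ext s; simp only [Set.mem_insert_iff, Set.mem_singleton_iff]; tauto
  · refine ⟨4 * k + 4, 2 * k + 1, by omega, by omega, by omega, by omega, Or.inr (by omega),
      by omega, by rw [hk]; ring, ?_⟩
    have h := odd_range (F := F) hodd h7 (Fintype.card F * (2 * k + 1)) (Fintype.card F + 1) (by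
      rw [hk, show 4 * k + 3 - 1 = 4 * k + 2 by omega]; ring) (by omega)
      (fun g hg ht => torus_zero_three (by omega) hg ht)
    rw [h, hk]
    have e1 : ((4 * k + 3) ^ 2 - 1) / 2 = (4 * k + 4) * (2 * k + 1) := by
      have : (4 * k + 3) ^ 2 = 2 * ((4 * k + 4) * (2 * k + 1)) + 1 := by ring
      omega
    have e2 : (4 * k + 3) * (4 * k + 3 - 1) = 2 * ((4 * k + 3) * (2 * k + 1)) := by
      rw [show 4 * k + 3 - 1 = 4 * k + 2 by omega]; ring
    rw [e1, e2, show 4 * k + 3 + 1 = 4 * k + 4 by omega]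

end Grp

section Arith

variable {p f q a c : ℕ}

/-- Divisibility among the class sizes, `q` odd. -/
theorem dvd_cases_odd (hc : ¬ 2 ∣ c) (hc3 : 3 ≤ c) (ha : 2 ∣ a) (ha4 : 4 ≤ a)
    (hac : a + 2 = 2 * c ∨ a = 2 * c + 2) (hU : 2 * (a * c) + 1 = q * q)
    {s t : ℕ} (hs : s ∈ ({1, a * c, q * c, 2 * (q * c), q * a} : Set ℕ))
    (ht : t ∈ ({1, a * c, q * c, 2 * (q * c), q * a} : Set ℕ)) (hd : s ∣ t) :
    s = 1 ∨ s = t ∨ (s = q * c ∧ t = 2 * (q * c)) := by
  have hq3 : 1 < q := by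
    by_contra h
    have h2 := Nat.mul_le_mul (not_lt.mp h) (not_lt.mp h)
    have h3 : 0 < a * c := Nat.mul_pos (by omega) (by omega)
    omega
  have hg : a.Coprime c := by
    have h2 : Nat.gcd a c ∣ 2 := by
      have hda : Nat.gcd a c ∣ a := Nat.gcd_dvd_left a c
      have hdc : Nat.gcd a c ∣ 2 * c := Dvd.dvd.mul_left (Nat.gcd_dvd_right a c) 2
      rcases hac with h | h
      · exact (Nat.dvd_add_right hda).mp (h ▸ hdc)
      · exact (Nat.dvd_add_right hdc).mp (h ▸ hda)
    rcases (Nat.dvd_prime Nat.prime_two).mp h2 with h | h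
    · exact h
    · exact absurd (h ▸ Nat.gcd_dvd_right a c) hc
  have hqac : q.Coprime (a * c) := by
    refine Nat.eq_one_of_dvd_one ?_
    have h1 : Nat.gcd q (a * c) ∣ 2 * (a * c) := Dvd.dvd.mul_left (Nat.gcd_dvd_right _ _) 2
    exact (Nat.dvd_add_right h1).mp (hU ▸ Dvd.dvd.mul_left (Nat.gcd_dvd_left _ _) q)
  have hqa : q.Coprime a := hqac.coprime_dvd_right (dvd_mul_right a c)
  have hqc : q.Coprime c := hqac.coprime_dvd_right (dvd_mul_left c a)
  have hq1 : ∀ n, q ∣ n → n.Coprime q → False := fun n h1 h2 =>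
    absurd (Nat.eq_one_of_dvd_coprimes h2 h1 dvd_rfl) (by omega)
  have hac' : ¬ a ∣ c := fun h => by
    have := Nat.eq_one_of_dvd_coprimes hg dvd_rfl h; omega
  have hca : ¬ c ∣ a := fun h => by
    have := Nat.eq_one_of_dvd_coprimes hg h dvd_rfl; omega
  have ha2c : ¬ a ∣ 2 * c := fun h => by
    have := Nat.le_of_dvd (by omega) ((hg.dvd_of_dvd_mul_right h))
    omega
  simp only [Set.mem_insert_iff, Set.mem_singleton_iff] at hs ht
  have h1 : t = 1 → s = 1 := fun e => Nat.eq_one_of_dvd_one (e ▸ hd)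
  rcases hs with rfl | rfl | rfl | rfl | rfl
  · exact Or.inl rfl
  · rcases ht with rfl | rfl | rfl | rfl | rfl
    · exact Or.inl (h1 rfl)
    · exact Or.inr (Or.inl rfl)
    · exact absurd (hqa.symm.dvd_of_dvd_mul_left ((dvd_mul_right a c).trans hd)) hac'
    · refine absurd (hqa.symm.dvd_of_dvd_mul_left ?_) ha2c
      rw [show q * (2 * c) = 2 * (q * c) by ring]
      exact (dvd_mul_right a c).trans hd
    · exact absurd (hqc.symm.dvd_of_dvd_mul_left ((dvd_mul_left c a).trans hd)) hca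
  · rcases ht with rfl | rfl | rfl | rfl | rfl
    · exact Or.inl (h1 rfl)
    · exact (hq1 _ ((dvd_mul_right q c).trans hd) hqac.symm).elim
    · exact Or.inr (Or.inl rfl)
    · exact Or.inr (Or.inr ⟨rfl, rfl⟩)
    · exact absurd ((Nat.mul_dvd_mul_iff_left (by omega)).mp hd) hca
  · have hd' : q * c ∣ t := (dvd_mul_left (q * c) 2).trans hd
    rcases ht with rfl | rfl | rfl | rfl | rfl
    · exact Or.inl (h1 rfl)
    · exact (hq1 _ ((dvd_mul_right q c).trans hd') hqac.symm).elim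
    · have := Nat.le_of_dvd (Nat.mul_pos (by omega) (by omega)) hd
      have : 0 < q * c := Nat.mul_pos (by omega) (by omega)
      omega
    · exact Or.inr (Or.inl rfl)
    · exact absurd ((Nat.mul_dvd_mul_iff_left (by omega)).mp hd') hca
  · rcases ht with rfl | rfl | rfl | rfl | rfl
    · exact Or.inl (h1 rfl)
    · exact (hq1 _ ((dvd_mul_right q a).trans hd) hqac.symm).elim
    · exact absurd ((Nat.mul_dvd_mul_iff_left (by omega)).mp hd) hac'
    · refine absurd ((Nat.mul_dvd_mul_iff_left (by omega : 0 < q)).mp ?_) ha2c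
      rw [show q * (2 * c) = 2 * (q * c) by ring]
      exact hd
    · exact Or.inr (Or.inl rfl)

theorem sizeAxioms_odd (hp : p.Prime) (hp2 : p ≠ 2) (hf : 0 < f) (hq : q = p ^ f) (hc : ¬ 2 ∣ c)
    (hc3 : 3 ≤ c) (ha : 2 ∣ a) (ha4 : 4 ≤ a) (hac : a + 2 = 2 * c ∨ a = 2 * c + 2)
    (hU : 2 * (a * c) + 1 = q * q) :
    SizeAxioms ({1, a * c, q * c, 2 * (q * c), q * a} : Set ℕ) p q (a * c) (q * a) := by
  have hpq : p ∣ q := hq ▸ dvd_pow_self p hf.ne'
  have hq0 : 0 < q := hq ▸ pow_pos hp.pos f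
  have hq2 : ¬ 2 ∣ q := fun h => hp2
    (((Nat.prime_dvd_prime_iff_eq Nat.prime_two hp).mp (Nat.prime_two.dvd_of_dvd_pow (hq ▸ h))).symm)
  have hpU : ¬ p ∣ a * c := fun h => by
    have h1 : p ∣ 2 * (a * c) := Dvd.dvd.mul_left h 2
    have h2 : p ∣ 1 := (Nat.dvd_add_right h1).mp (hU ▸ Dvd.dvd.mul_left hpq q)
    exact hp.ne_one (Nat.eq_one_of_dvd_one h2)
  have hpa : ¬ p ∣ a := fun h => hpU (Dvd.dvd.mul_right h c)
  have hpc : ¬ p ∣ c := fun h => hpU (Dvd.dvd.mul_left h a)
  have hac1 : 1 < a * c := Nat.one_lt_mul_iff.mpr ⟨by omega, by omega, Or.inl (by omega)⟩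
  have hnp : ∀ n, ¬ p ∣ n → q ∣ q * n ∧ ¬ p * q ∣ q * n := fun n hn =>
    ⟨dvd_mul_right q n, fun h => hn (by
      rw [mul_comm p q] at h; exact (Nat.mul_dvd_mul_iff_left hq0).mp h)⟩
  have hne : ∀ n, q * n ≠ a * c := fun n e => hpU (e ▸ Dvd.dvd.mul_right hpq n)
  have hne1 : ∀ n, q * n ≠ 1 := fun n e => hp.ne_one (Nat.eq_one_of_dvd_one
    (e ▸ Dvd.dvd.mul_right hpq n))
  have hdc := @dvd_cases_odd q a c hc hc3 ha ha4 hac hU
  have hca : c ≠ a := fun e => hc (e ▸ ha)
  have h2ca : 2 * c ≠ a := by omega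
  refine ⟨hp, ⟨f, hf, hq⟩, by simp, by omega, hpU, ?_, ?_, ?_, by simp, ⟨hne1 a, hne a⟩, ?_, ?_, ?_⟩
  · intro s hs h1 hU'
    simp only [Set.mem_insert_iff, Set.mem_singleton_iff] at hs
    rcases hs with rfl | rfl | rfl | rfl | rfl
    · exact absurd rfl h1
    · exact absurd rfl hU'
    · exact hnp c hpc
    · rw [show 2 * (q * c) = q * (2 * c) by ring]
      exact hnp _ fun h => (hp.dvd_mul.mp h).elim
        (fun h => hp2 ((Nat.prime_dvd_prime_iff_eq hp Nat.prime_two).mp h)) hpc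
    · exact hnp a hpa
  · intro s hs hd
    rcases hdc (by simp) hs hd with h | h | ⟨h, -⟩
    · omega
    · exact h.symm
    · exact absurd h.symm (hne c)
  · intro r hr hrp
    have hrq : ¬ r ∣ q := fun h => hrp
      ((Nat.prime_dvd_prime_iff_eq hr hp).mp (hr.dvd_of_dvd_pow (hq ▸ h)))
    by_cases hr2 : r = 2
    · subst hr2
      exact ⟨q * c, by simp, hne1 c, hne c, fun h => (hr.dvd_mul.mp h).elim hrq hc⟩
    by_cases hrc : r ∣ c
    · refine ⟨q * a, by simp, hne1 a, hne a, fun h => (hr.dvd_mul.mp h).elim hrq fun hra => ?_⟩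
      have hr2' : r ∣ 2 := by
        have hdc' : r ∣ 2 * c := Dvd.dvd.mul_left hrc 2
        rcases hac with h | h
        · exact (Nat.dvd_add_right hra).mp (h ▸ hdc')
        · exact (Nat.dvd_add_right hdc').mp (h ▸ hra)
      exact hr2 ((Nat.prime_dvd_prime_iff_eq hr Nat.prime_two).mp hr2')
    · refine ⟨2 * (q * c), by simp, ?_, ?_, fun h => ?_⟩
      · rw [show 2 * (q * c) = q * (2 * c) by ring]; exact hne1 _
      · rw [show 2 * (q * c) = q * (2 * c) by ring]; exact hne _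
      · rcases hr.dvd_mul.mp h with h | h
        · exact hr2 ((Nat.prime_dvd_prime_iff_eq hr Nat.prime_two).mp h)
        · exact (hr.dvd_mul.mp h).elim hrq hrc
  · intro s hs hd
    rcases hdc hs (by simp) hd with h | h | ⟨-, h⟩
    · exact Or.inl h
    · exact Or.inr h
    · rw [show 2 * (q * c) = q * (2 * c) by ring] at h
      exact absurd (Nat.eq_of_mul_eq_mul_left hq0 h).symm h2ca
  · intro s hs hd
    rcases hdc (by simp) hs hd with h | h | ⟨h, -⟩
    · exact absurd h (hne1 a)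
    · exact h.symm
    · exact absurd (Nat.eq_of_mul_eq_mul_left hq0 h).symm hca
  · obtain ⟨r, hr, hrc⟩ := Nat.exists_prime_and_dvd (show c ≠ 1 by omega)
    refine ⟨r, hr, fun e => hpc (e ▸ hrc), fun h => ?_, Dvd.dvd.mul_left hrc a⟩
    rcases hr.dvd_mul.mp h with h | h
    · exact hpc ((Nat.prime_dvd_prime_iff_eq hr hp).mp (hr.dvd_of_dvd_pow (hq ▸ h)) ▸ hrc)
    · have hr2' : r ∣ 2 := by
        have hdc' : r ∣ 2 * c := Dvd.dvd.mul_left hrc 2
        rcases hac with e | e
        · exact (Nat.dvd_add_right h).mp (e ▸ hdc')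
        · exact (Nat.dvd_add_right hdc').mp (e ▸ h)
      exact hc ((Nat.prime_dvd_prime_iff_eq hr Nat.prime_two).mp hr2' ▸ hrc)

/-- Divisibility among the class sizes, `q` even. -/
theorem dvd_cases_even (hq4 : 4 ≤ q) (hq : 2 ∣ q) {s t : ℕ}
    (hs : s ∈ ({1, q * (q - 1), q ^ 2 - 1, q * (q + 1)} : Set ℕ))
    (ht : t ∈ ({1, q * (q - 1), q ^ 2 - 1, q * (q + 1)} : Set ℕ)) (hd : s ∣ t) :
    s = 1 ∨ s = t := by
  obtain ⟨n, rfl⟩ : ∃ n, q = n + 1 := ⟨q - 1, by omega⟩
  have e : (n + 1) ^ 2 - 1 = n * (n + 2) := by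
    have : (n + 1) ^ 2 = n * (n + 2) + 1 := by ring
    omega
  simp only [Nat.add_sub_cancel, e, Set.mem_insert_iff, Set.mem_singleton_iff] at hs ht
  have hg : n.Coprime (n + 2) := by
    refine (Nat.coprime_self_add_right).mpr ?_
    exact (Nat.coprime_two_right).mpr (Nat.odd_iff.mpr (by omega))
  have hn1 : n.Coprime (n + 1) := by simp
  have hn2 : (n + 1).Coprime (n + 2) := by
    rw [show n + 2 = n + 1 + 1 from rfl]; simp
  have hno : ∀ x y : ℕ, 1 < x → x.Coprime y → ¬ x ∣ y := fun x y hx hc h =>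
    absurd (Nat.eq_one_of_dvd_coprimes hc dvd_rfl h) (by omega)
  have h1 : t = 1 → s = 1 := fun e => Nat.eq_one_of_dvd_one (e ▸ hd)
  rcases hs with rfl | rfl | rfl | rfl
  · exact Or.inl rfl
  · rcases ht with rfl | rfl | rfl | rfl
    · exact Or.inl (h1 rfl)
    · exact Or.inr rfl
    · exact absurd ((dvd_mul_right (n + 1) n).trans hd)
        (hno _ _ (by omega) (hn1.symm.mul_right hn2))
    · exact absurd ((Nat.mul_dvd_mul_iff_left (by omega)).mp hd) (hno _ _ (by omega) hg)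
  · rcases ht with rfl | rfl | rfl | rfl
    · exact Or.inl (h1 rfl)
    · exact absurd ((dvd_mul_left (n + 2) n).trans hd)
        (hno _ _ (by omega) (hn2.symm.mul_right hg.symm))
    · exact Or.inr rfl
    · exact absurd ((dvd_mul_right n (n + 2)).trans hd) (hno _ _ (by omega) (hn1.mul_right hg))
  · rcases ht with rfl | rfl | rfl | rfl
    · exact Or.inl (h1 rfl)
    · exact absurd ((Nat.mul_dvd_mul_iff_left (by omega)).mp hd) (hno _ _ (by omega) hg.symm)
    · exact absurd ((dvd_mul_right (n + 1) (n + 2)).trans hd)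
        (hno _ _ (by omega) (hn1.symm.mul_right hn2))
    · exact Or.inr rfl

theorem sizeAxioms_even (hf : 0 < f) (hq : q = 2 ^ f) (hq4 : 4 ≤ q) :
    SizeAxioms ({1, q * (q - 1), q ^ 2 - 1, q * (q + 1)} : Set ℕ) 2 q (q ^ 2 - 1)
      (q * (q - 1)) := by
  have h2q : 2 ∣ q := hq ▸ dvd_pow_self 2 hf.ne'
  have hdc := @dvd_cases_even q hq4 h2q
  have hq2 : q ^ 2 = q * q := sq q
  have h16 : 4 * 4 ≤ q * q := Nat.mul_le_mul hq4 hq4
  have hodd : ¬ 2 ∣ q ^ 2 - 1 := fun h => by
    have : 2 ∣ q * q := Dvd.dvd.mul_left h2q q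
    omega
  have hev : ∀ n, q * n ≠ q ^ 2 - 1 := fun n e => hodd (e ▸ Dvd.dvd.mul_right h2q n)
  have hne1 : ∀ n, q * n ≠ 1 := fun n e => by
    have := Nat.eq_one_of_dvd_one (e ▸ dvd_mul_right q n)
    omega
  have hnp : ∀ n, ¬ 2 ∣ n → q ∣ q * n ∧ ¬ 2 * q ∣ q * n := fun n hn =>
    ⟨dvd_mul_right q n, fun h => hn (by
      rw [mul_comm 2 q] at h; exact (Nat.mul_dvd_mul_iff_left (by omega)).mp h)⟩
  refine ⟨Nat.prime_two, ⟨f, hf, hq⟩, by simp, by omega, hodd, ?_, ?_, ?_, by simp,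
    ⟨hne1 _, hev _⟩, ?_, ?_, ?_⟩
  · intro s hs h1 hU'
    simp only [Set.mem_insert_iff, Set.mem_singleton_iff] at hs
    rcases hs with rfl | rfl | rfl | rfl
    · exact absurd rfl h1
    · exact hnp _ (by omega)
    · exact absurd rfl hU'
    · exact hnp _ (by omega)
  · intro s hs hd
    rcases hdc (by simp) hs hd with h | h
    · omega
    · exact h.symm
  · intro r hr hr2
    have hrq : ¬ r ∣ q := fun h => hr2
      ((Nat.prime_dvd_prime_iff_eq hr Nat.prime_two).mp (hr.dvd_of_dvd_pow (hq ▸ h)))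
    by_cases hrm : r ∣ q - 1
    · refine ⟨q * (q + 1), by simp, hne1 _, hev _, fun h => (hr.dvd_mul.mp h).elim hrq fun h => ?_⟩
      have : r ∣ 2 := (Nat.dvd_add_right hrm).mp (show r ∣ q - 1 + 2 by
        rw [show q - 1 + 2 = q + 1 by omega]; exact h)
      exact hr2 ((Nat.prime_dvd_prime_iff_eq hr Nat.prime_two).mp this)
    · exact ⟨q * (q - 1), by simp, hne1 _, hev _, fun h => (hr.dvd_mul.mp h).elim hrq hrm⟩
  · intro s hs hd
    exact hdc hs (by simp) hd
  · intro s hs hd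
    exact ((hdc (by simp) hs hd).resolve_left (hne1 _)).symm
  · obtain ⟨r, hr, hrd⟩ := Nat.exists_prime_and_dvd (show q + 1 ≠ 1 by omega)
    have hr2 : r ≠ 2 := fun e => by rw [e] at hrd; omega
    refine ⟨r, hr, hr2, fun h => ?_, ?_⟩
    · rcases hr.dvd_mul.mp h with h | h
      · exact hr2 ((Nat.prime_dvd_prime_iff_eq hr Nat.prime_two).mp (hr.dvd_of_dvd_pow (hq ▸ h)))
      · have : r ∣ 2 := (Nat.dvd_add_right h).mp (show r ∣ q - 1 + 2 by
          rw [show q - 1 + 2 = q + 1 by omega]; exact hrd)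
        exact hr2 ((Nat.prime_dvd_prime_iff_eq hr Nat.prime_two).mp this)
    · rw [PSLTwo_sq q]
      exact Dvd.dvd.mul_left hrd _
  where
    PSLTwo_sq (q : ℕ) : q ^ 2 - 1 = (q - 1) * (q + 1) := by
      rw [mul_comm, ← Nat.sq_sub_sq, one_pow]

end Arith

end Cfsg.Agent.Lib.PSLClassSize64
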