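import Mathlib
import Cfsg.Agent.Lib.PSLClassSize64.Model

/-!
# Groups with the class sizes of `PSL₂(q)`: splitting off the center

* `exists_ratio` : for an element of prime power order the class size exceeds that of its image in
  the central quotient by a power of the prime;
* `NoFusion` : elements with commuting images commute, if one has prime power order;
* `commutator_inf_center` : then the derived group meets the center trivially, by transfer.
-/

set_option autoImplicit false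
set_option linter.unusedSectionVars false

namespace Cfsg.Agent.Lib.PSLClassSize64

open Cfsg.Agent.Lib.ClassSizes.Basic Cfsg.Agent.Lib.ClassSizes.CopTools

variable {G Q : Type*} [Group G] [Finite G] [Group Q] (ψ : G →* Q)

theorem cen_le_comap (w : G) : cen w ≤ (cen (ψ w)).comap ψ := fun c hc =>
  Subgroup.mem_comap.mpr (mem_cen.mpr (by rw [← map_mul, ← map_mul, mem_cen.mp hc]))

variable (hψ : Function.Surjective ψ) (hker : ψ.ker = Subgroup.center G)
include hψ hker

theorem idx_image_dvd (w : G) : idx (ψ w) ∣ idx w := by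
  rw [idx, idx, ← Subgroup.index_comap_of_surjective (cen (ψ w)) hψ]
  exact Subgroup.index_dvd_of_le (cen_le_comap ψ w)

/-- The class of an element of `l`-power order covers the class of its image `l ^ i` times. -/
theorem exists_ratio {w : G} {l k : ℕ} (hl : l.Prime) (hw : w ^ l ^ k = 1) :
    ∃ i : ℕ, idx w = l ^ i * idx (ψ w) := by
  have := Fact.mk hl
  set K := (cen (ψ w)).comap ψ with hK
  have hz : ∀ c : K, (c : G) * w * (c : G)⁻¹ * w⁻¹ ∈ Subgroup.center G := fun c => by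
    rw [← hker, MonoidHom.mem_ker]
    have h1 : ψ w * ψ c = ψ c * ψ w := mem_cen.mp (Subgroup.mem_comap.mp c.2)
    simp only [map_mul, map_inv]
    rw [← h1]
    group
  let χ : K →* Subgroup.center G := MonoidHom.mk' (fun c => ⟨_, hz c⟩) (fun c d => Subtype.ext (by
    have h1 := Subgroup.mem_center_iff.mp (hz d) (c : G)
    simp only [Subgroup.coe_mul]
    calc (c : G) * d * w * ((c : G) * d)⁻¹ * w⁻¹
        = (c : G) * ((d : G) * w * (d : G)⁻¹ * w⁻¹) * (w * (c : G)⁻¹ * w⁻¹) := by group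
      _ = ((d : G) * w * (d : G)⁻¹ * w⁻¹) * ((c : G) * w * (c : G)⁻¹ * w⁻¹) := by rw [h1]; group
      _ = _ := by rw [Subgroup.mem_center_iff.mp (hz c)]))
  have hkerχ : χ.ker = (cen w).subgroupOf K := by
    ext c
    rw [MonoidHom.mem_ker, Subgroup.mem_subgroupOf, mem_cen, Subtype.ext_iff]
    change (c : G) * w * (c : G)⁻¹ * w⁻¹ = 1 ↔ _
    rw [mul_inv_eq_one, mul_inv_eq_iff_eq_mul, eq_comm]
  have hrange : IsPGroup l χ.range := by
    rintro ⟨_, c, rfl⟩
    refine ⟨k, Subtype.ext (Subtype.ext ?_)⟩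
    change ((c : G) * w * (c : G)⁻¹ * w⁻¹) ^ l ^ k = 1
    have hcw : Commute ((c : G) * w * (c : G)⁻¹ * w⁻¹) w :=
      (Subgroup.mem_center_iff.mp (hz c) w).symm
    have h1 : (((c : G) * w * (c : G)⁻¹ * w⁻¹) * w) ^ l ^ k = 1 := by
      rw [inv_mul_cancel_right, conj_pow, hw]
      group
    rwa [hcw.mul_pow, hw, mul_one] at h1
  obtain ⟨i, hi⟩ := IsPGroup.iff_card.mp hrange
  refine ⟨i, ?_⟩
  rw [idx, idx, ← Subgroup.index_comap_of_surjective (cen (ψ w)) hψ,
    ← Subgroup.relIndex_mul_index (cen_le_comap ψ w), ← hi, ← Subgroup.index_ker, hkerχ]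
  rfl

/-- The class sizes of the elements of prime power order are those of their images. -/
theorem commute_of_image {S : Set ℕ} (I : ℕ) (hS : ∀ x : G, idx x ∈ S) (hQ : ∀ a : Q, idx a ∈ S)
    (hsurj : ∀ s ∈ S, ∃ x : G, idx x = s)
    (hpairs : ∀ s ∈ S, ∀ t ∈ S, s ∣ t → s = 1 ∨ s = t ∨ (s = I ∧ t = 2 * I))
    (hconj : ∀ a b : Q, idx a = I → idx b = I → IsConj a b) (hZQ : Subgroup.center Q = ⊥)
    {w c : G} {l k : ℕ} (hl : l.Prime) (hw : w ^ l ^ k = 1) (hc : ψ c * ψ w = ψ w * ψ c) :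
    c * w = w * c := by
  by_cases hwZ : w ∈ Subgroup.center G
  · exact (Subgroup.mem_center_iff.mp hwZ c)
  have hne1 : ∀ x : G, x ∉ Subgroup.center G → idx (ψ x) ≠ 1 := fun x hx e => hx (by
    rw [← hker, MonoidHom.mem_ker]
    have := idx_eq_one.mp e
    rwa [hZQ, Subgroup.mem_bot] at this)
  obtain ⟨i, hi⟩ := exists_ratio ψ hψ hker hl hw
  have heq : idx (ψ w) = idx w := by
    rcases hpairs _ (hQ (ψ w)) _ (hS w) (idx_image_dvd ψ hψ hker w) with h | h | ⟨hI, h2I⟩
    · exact absurd h (hne1 w hwZ)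
    · exact h
    · exfalso
      have hI0 : I ≠ 0 := fun e => Subgroup.index_ne_zero_of_finite (h2I.trans (by rw [e, mul_zero]))
      obtain ⟨t, ht⟩ := hsurj I (hI ▸ hQ (ψ w))
      have htZ : t ∉ Subgroup.center G := fun e => by
        have h1 : I = 1 := ht ▸ idx_eq_one.mpr e
        exact hne1 w hwZ (hI.trans h1)
      have htI : idx (ψ t) = I := by
        rcases hpairs _ (hQ (ψ t)) _ (hS t) (idx_image_dvd ψ hψ hker t) with h | h | ⟨h, h'⟩
        · exact absurd h (hne1 t htZ)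
        · rw [h, ht]
        · exact h
      obtain ⟨d, hd⟩ := isConj_iff.mp (hconj _ _ htI hI)
      obtain ⟨d, rfl⟩ := hψ d
      have hz : (d * t * d⁻¹)⁻¹ * w ∈ Subgroup.center G := by
        rw [← hker, MonoidHom.mem_ker, map_mul, map_inv, map_mul, map_mul, map_inv, hd,
          inv_mul_cancel]
      have hwt : idx w = I := by
        rw [show w = d * t * d⁻¹ * ((d * t * d⁻¹)⁻¹ * w) by group, idx, cen_mul_center hz]
        exact (idx_conj d t).trans ht
      omega
  have hle := cen_le_comap ψ w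
  have hcK : c ∈ (cen (ψ w)).comap ψ := Subgroup.mem_comap.mpr (mem_cen.mpr hc.symm)
  have h1 := Subgroup.relIndex_mul_index hle
  rw [Subgroup.index_comap_of_surjective _ hψ, show (cen (ψ w)).index = idx w from heq] at h1
  have h2 : (cen w).relIndex ((cen (ψ w)).comap ψ) = 1 :=
    Nat.eq_of_mul_eq_mul_right (Nat.pos_of_ne_zero Subgroup.index_ne_zero_of_finite)
      (h1.trans (one_mul _).symm)
  exact (mem_cen.mp (Subgroup.relIndex_eq_one.mp h2 hcK)).symm

end Cfsg.Agent.Lib.PSLClassSize64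

namespace Cfsg.Agent.Lib.PSLClassSize64

variable {G Q : Type*} [Group G] [Finite G] [Group Q]

/-- If commuting images come from commuting elements and centralizers in the quotient are nearly
abelian, then the derived group meets the center trivially. -/
theorem commutator_inf_center (ψ : G →* Q) (hker : ψ.ker = Subgroup.center G)
    (hfus : ∀ (w c : G) (l k : ℕ), l.Prime → w ^ l ^ k = 1 → ψ c * ψ w = ψ w * ψ c →
      c * w = w * c)
    (hpart : ∀ x : Q, x ≠ 1 → ∃ A : Subgroup Q, (∀ u ∈ A, ∀ v ∈ A, u * v = v * u) ∧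
      ∀ u v : Q, u * x = x * u → v * x = x * v → u ∉ A → v ∉ A → u⁻¹ * v ∈ A) :
    commutator G ⊓ Subgroup.center G = ⊥ := by
  classical
  by_contra hne
  set D := commutator G ⊓ Subgroup.center G with hD
  have : Nontrivial D := (Subgroup.nontrivial_iff_ne_bot D).mpr hne
  obtain ⟨l, hl, hld⟩ := Nat.exists_prime_and_dvd (Finite.one_lt_card (α := D)).ne'
  have := Fact.mk hl
  obtain ⟨⟨z, hzD⟩, hz⟩ := exists_prime_orderOf_dvd_card' (G := D) l hld
  rw [Subgroup.orderOf_mk] at hz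
  obtain ⟨hzG, hzZ⟩ := Subgroup.mem_inf.mp hzD
  obtain ⟨R⟩ : Nonempty (Sylow l G) := inferInstance
  have hzR : z ∈ (R : Subgroup G) := by
    have hzp : IsPGroup l (Subgroup.zpowers z) := by
      refine IsPGroup.of_card (n := 1) ?_
      rw [Nat.card_zpowers, hz, pow_one]
    have hn : Subgroup.zpowers z ≤ Subgroup.normalizer ((R : Subgroup G) : Set G) := by
      rw [Subgroup.zpowers_le, Subgroup.mem_normalizer_iff]
      intro y
      rw [← Subgroup.mem_center_iff.mp hzZ y, mul_inv_cancel_right]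
    have hp := R.2.to_sup_of_normal_left' hzp hn
    rw [← R.3 hp le_sup_left]
    exact Subgroup.mem_sup_right (Subgroup.mem_zpowers z)
  -- transfer
  have hzR' : (⟨z, hzR⟩ : (R : Subgroup G)) ∈ commutator (R : Subgroup G) := by
    let ϕ : (R : Subgroup G) →* Abelianization (R : Subgroup G) := Abelianization.of
    have key : ∀ (k : ℕ) (g₀ : G), g₀⁻¹ * z ^ k * g₀ ∈ (R : Subgroup G) →
        g₀⁻¹ * z ^ k * g₀ = z ^ k := fun k g₀ _ => by
      rw [Subgroup.mem_center_iff.mp (pow_mem hzZ k) g₀⁻¹, inv_mul_cancel_right]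
    have h1 := MonoidHom.transfer_eq_pow ϕ z key
    have h2 : MonoidHom.transfer ϕ z = 1 :=
      MonoidHom.mem_ker.mp (Abelianization.commutator_subset_ker _ hzG)
    rw [h2, eq_comm] at h1
    have h3 : (⟨z, hzR⟩ : (R : Subgroup G)) ^ (R : Subgroup G).index ∈
        commutator (R : Subgroup G) := by
      rw [← Abelianization.ker_of, MonoidHom.mem_ker]
      exact h1
    have hcop : (orderOf (⟨z, hzR⟩ : (R : Subgroup G))).Coprime (R : Subgroup G).index := by
      rw [Subgroup.orderOf_mk, hz]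
      exact hl.coprime_iff_not_dvd.mpr R.not_dvd_index
    obtain ⟨m, hm⟩ := exists_pow_eq_self_of_coprime hcop.symm
    rw [← hm]
    exact pow_mem h3 m
  have hpow : ∀ r ∈ (R : Subgroup G), ∃ k : ℕ, r ^ l ^ k = 1 := fun r hr => by
    obtain ⟨k, hk⟩ := R.2 ⟨r, hr⟩
    exact ⟨k, by simpa using congrArg Subtype.val hk⟩
  -- an abelian subgroup of `R` of index at most two
  obtain ⟨A, hAR, hAab, hA2⟩ : ∃ A : Subgroup G, A ≤ (R : Subgroup G) ∧
      (∀ u ∈ A, ∀ v ∈ A, u * v = v * u) ∧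
      ∀ u ∈ (R : Subgroup G), ∀ v ∈ (R : Subgroup G), u ∉ A → v ∉ A → u⁻¹ * v ∈ A := by
    by_cases hRZ : (R : Subgroup G).map ψ = ⊥
    · refine ⟨(R : Subgroup G), le_rfl, fun u hu v _ => ?_, fun u hu v hv _ _ =>
        mul_mem (inv_mem hu) hv⟩
      have : u ∈ Subgroup.center G := hker ▸ (Subgroup.map_eq_bot_iff _).mp hRZ hu
      exact (Subgroup.mem_center_iff.mp this v).symm
    · have : Nontrivial ((R : Subgroup G).map ψ) := (Subgroup.nontrivial_iff_ne_bot _).mpr hRZ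
      have : Finite ((R : Subgroup G).map ψ) :=
        Finite.of_surjective _ (ψ.subgroupMap_surjective (R : Subgroup G))
      have := (R.2.map ψ).center_nontrivial
      obtain ⟨x, hx⟩ := exists_ne (1 : Subgroup.center ((R : Subgroup G).map ψ))
      obtain ⟨A, hA, hA2⟩ := hpart ((x : (R : Subgroup G).map ψ) : Q)
        fun e => hx (Subtype.ext (Subtype.ext e))
      refine ⟨(R : Subgroup G) ⊓ A.comap ψ, inf_le_left, ?_, ?_⟩
      · rintro u ⟨huR, huA⟩ v ⟨hvR, hvA⟩
        obtain ⟨k, hk⟩ := hpow v hvR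
        exact hfus v u l k hl hk (hA _ huA _ hvA)
      · intro u hu v hv huA hvA
        refine ⟨(R : Subgroup G).mul_mem ((R : Subgroup G).inv_mem hu) hv, ?_⟩
        have hcx : ∀ r ∈ (R : Subgroup G), ψ r * ((x : (R : Subgroup G).map ψ) : Q) =
            ((x : (R : Subgroup G).map ψ) : Q) * ψ r := fun r hr =>
          congrArg Subtype.val (Subgroup.mem_center_iff.mp x.2 ⟨ψ r, r, hr, rfl⟩)
        change ψ (u⁻¹ * v) ∈ A
        rw [map_mul, map_inv]
        exact hA2 _ _ (hcx u hu) (hcx v hv) (fun e => huA ⟨hu, e⟩) (fun e => hvA ⟨hv, e⟩)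
  by_cases hall : (R : Subgroup G) ≤ A
  · have : commutator (R : Subgroup G) = ⊥ := by
      rw [commutator_def, Subgroup.commutator_eq_bot_iff_le_centralizer]
      intro u _
      exact Subgroup.mem_centralizer_iff.mpr fun v _ =>
        Subtype.ext (hAab _ (hall v.2) _ (hall u.2))
    rw [this, Subgroup.mem_bot] at hzR'
    have : z = 1 := congrArg Subtype.val hzR'
    rw [this, orderOf_one] at hz
    exact hl.one_lt.ne hz
  obtain ⟨s, hsR, hsA⟩ := SetLike.not_le_iff_exists.mp hall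
  have hdec : ∀ r ∈ (R : Subgroup G), r ∈ A ∨ ∃ a ∈ A, r = s * a := fun r hr => by
    by_cases h : r ∈ A
    · exact Or.inl h
    · exact Or.inr ⟨s⁻¹ * r, hA2 s hsR r hr hsA h, by group⟩
  have hss : s * s ∈ A := by
    have := hA2 s⁻¹ (inv_mem hsR) s hsR (fun e => hsA (inv_mem_iff.mp e)) hsA
    rwa [inv_inv] at this
  have hnorm : ∀ a ∈ A, s * a * s⁻¹ ∈ A := fun a ha => by
    have h1 : (s * a)⁻¹ ∉ A := fun e => hsA (by
      have := mul_mem (inv_mem_iff.mp e) (inv_mem ha)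
      rwa [mul_inv_cancel_right] at this)
    have h2 := hA2 _ (inv_mem (mul_mem hsR (hAR ha))) _ (inv_mem hsR) h1
      (fun e => hsA (inv_mem_iff.mp e))
    rwa [inv_inv] at h2
  let φ : A →* G := MonoidHom.mk' (fun a => s * a * s⁻¹ * (a : G)⁻¹) (fun a b => by
    have hA' : s * (b : G) * s⁻¹ ∈ A := hnorm b b.2
    simp only [Subgroup.coe_mul, mul_inv_rev]
    have e1 : (a : G)⁻¹ * (s * b * s⁻¹ * (b : G)⁻¹) = (s * b * s⁻¹ * (b : G)⁻¹) * (a : G)⁻¹ :=
      hAab _ (inv_mem a.2) _ (mul_mem hA' (inv_mem b.2))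
    calc s * (a * b) * s⁻¹ * ((b : G)⁻¹ * (a : G)⁻¹)
        = (s * a * s⁻¹) * ((s * b * s⁻¹ * (b : G)⁻¹) * (a : G)⁻¹) := by group
      _ = (s * a * s⁻¹) * ((a : G)⁻¹ * (s * b * s⁻¹ * (b : G)⁻¹)) := by rw [e1]
      _ = _ := by group)
  have hV : commutator (R : Subgroup G) ≤ φ.range.comap (R : Subgroup G).subtype := by
    rw [commutator_def, Subgroup.commutator_le]
    rintro ⟨u, hu⟩ - ⟨v, hv⟩ -
    change u * v * u⁻¹ * v⁻¹ ∈ φ.range
    rcases hdec u hu with hu' | ⟨a, ha, rfl⟩ <;> rcases hdec v hv with hv' | ⟨b, hb, rfl⟩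
    · rw [hAab u hu' v hv']
      simp only [mul_inv_cancel_right, mul_inv_cancel]
      exact one_mem _
    · refine ⟨⟨u, hu'⟩⁻¹, ?_⟩
      change s * u⁻¹ * s⁻¹ * u⁻¹⁻¹ = _
      have h1 : u * (s * b) * u⁻¹ * (s * b)⁻¹ = u * s * (u⁻¹ * s⁻¹) := by
        calc u * (s * b) * u⁻¹ * (s * b)⁻¹ = u * s * (b * u⁻¹) * b⁻¹ * s⁻¹ := by group
          _ = u * s * (u⁻¹ * b) * b⁻¹ * s⁻¹ := by rw [hAab b hb _ (inv_mem hu')]
          _ = _ := by group
      rw [h1, inv_inv]
      have h2 := hAab (s * u⁻¹ * s⁻¹) (hnorm _ (inv_mem hu')) u hu'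
      rw [h2]; group
    · refine ⟨⟨v, hv'⟩, ?_⟩
      change s * v * s⁻¹ * v⁻¹ = _
      have h1 : a * v = v * a := hAab a ha v hv'
      calc s * v * s⁻¹ * v⁻¹ = s * (v * a) * a⁻¹ * s⁻¹ * v⁻¹ := by group
        _ = s * (a * v) * a⁻¹ * s⁻¹ * v⁻¹ := by rw [h1]
        _ = _ := by group
    · refine ⟨⟨a, ha⟩ * ⟨b, hb⟩⁻¹, ?_⟩
      change s * (a * b⁻¹) * s⁻¹ * (a * b⁻¹)⁻¹ = _
      have hba : b * a⁻¹ = a⁻¹ * b := hAab b hb _ (inv_mem ha)
      have h2 := hAab (s * s) hss _ (mul_mem hb (inv_mem ha))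
      have h3 := hAab (s * b⁻¹ * s⁻¹) (hnorm _ (inv_mem hb)) (b * a⁻¹)
        (mul_mem hb (inv_mem ha))
      calc s * (a * b⁻¹) * s⁻¹ * (a * b⁻¹)⁻¹
          = (s * a * s⁻¹) * ((s * b⁻¹ * s⁻¹) * (b * a⁻¹)) := by group
        _ = (s * a * s⁻¹) * ((b * a⁻¹) * (s * b⁻¹ * s⁻¹)) := by rw [h3]
        _ = (s * a * s⁻¹) * ((s * s) * (b * a⁻¹)) * (s * s)⁻¹ * (s * b⁻¹ * s⁻¹) := by
            rw [h2]; group
        _ = _ := by group
  obtain ⟨⟨a, ha⟩, hza⟩ := hV hzR'
  have hza' : s * a * s⁻¹ * a⁻¹ = z := hza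
  obtain ⟨k, hk⟩ := hpow a (hAR ha)
  have hcomm : s * a = a * s := hfus a s l k hl hk (by
    have : ψ z = 1 := by rw [← MonoidHom.mem_ker, hker]; exact hzZ
    rw [← hza', map_mul, map_mul, map_mul, map_inv, map_inv, mul_inv_eq_one,
      mul_inv_eq_iff_eq_mul] at this
    exact this)
  have : z = 1 := by rw [← hza', hcomm]; group
  rw [this, orderOf_one] at hz
  exact hl.one_lt.ne hz

end Cfsg.Agent.Lib.PSLClassSize64
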