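import Mathlib
import Cfsg.Agent.Lib.PSLClassSize64.Split
import Cfsg.Agent.Lib.PSLClassSize64.Recog

/-!
# Groups with the class sizes of `PSL₂(q)`

`main` : such a group has central quotient `PSL₂(q)` and its derived group meets the center
trivially; `direct_product` : so it is the product of `PSL₂(q)` and an abelian group.
-/

set_option autoImplicit false
set_option linter.unusedSectionVars false

namespace Cfsg.Agent.Lib.PSLClassSize64

open Cfsg.Agent.Lib.ClassSizes.Basic Cfsg.Agent.Lib.ClassSizes.CopTools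

variable {G : Type*} [Group G] [Finite G]

/-- An element of the quotient with centralizer of order `U` and prime order `l` comes from a
class size `l ^ i * q` with `l` dividing the order of the centralizer. -/
theorem exists_of_card_U {S : Set ℕ} {p q U N : ℕ} (H : Hyp G S p q U N) {l : ℕ} (hl : l.Prime)
    {a : G ⧸ Subgroup.center G} (ha : a ^ l = 1) (ha1 : a ≠ 1)
    (hU : Nat.card (Subgroup.centralizer ({a} : Set (G ⧸ Subgroup.center G))) = U) :
    ∃ i e : ℕ, l ^ i * q ∈ S ∧ e * (l ^ i * q) = q * U ∧ l ∣ e := by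
  obtain ⟨w, ⟨k, hk⟩, rfl⟩ := exists_pel_lift hl (k := 1) (by rwa [pow_one])
  obtain ⟨i, hi⟩ := exists_ratio (QuotientGroup.mk' (Subgroup.center G))
    (QuotientGroup.mk'_surjective _) (QuotientGroup.ker_mk' _) hl hk
  have hq : idx (QuotientGroup.mk' (Subgroup.center G) w) = q := by
    have h1 := Subgroup.card_mul_index
      (Subgroup.centralizer ({(w : G ⧸ Subgroup.center G)} : Set (G ⧸ Subgroup.center G)))
    rw [hU, ← Subgroup.index_eq_card, H.index_center, mul_comm q U] at h1
    exact Nat.eq_of_mul_eq_mul_left (Nat.pos_of_ne_zero fun (e : U = 0) => H.ax.U_cop (by rw [e]; exact dvd_zero p)) h1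
  rw [hq] at hi
  refine ⟨i, relC w, hi ▸ H.sizes w, by rw [← hi, relC_mul_idx, H.index_center], ?_⟩
  have hrel : relC w = Nat.card ((cen w).map (QuotientGroup.mk' (Subgroup.center G))) := by
    rw [relC, ← Subgroup.relIndex_ker, QuotientGroup.ker_mk']
  rw [hrel]
  have h2 : orderOf (w : G ⧸ Subgroup.center G) = l :=
    (hl.eq_one_or_self_of_dvd _ (orderOf_dvd_of_pow_eq_one ha)).resolve_left
      fun e => ha1 (orderOf_eq_one_iff.mp e)
  rw [← h2]
  exact Subgroup.orderOf_dvd_natCard _ ⟨w, self_mem_cen w, rfl⟩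

theorem cc_quotient {S : Set ℕ} {p q U N : ℕ} (H : Hyp G S p q U N) :
    CC (G ⧸ Subgroup.center G) p q U :=
  ⟨H.ax.pp, H.ax.hq, H.ax.U_cop, by rw [← Subgroup.index_eq_card, H.index_center],
    fun a _ ha ha1 => H.card_centralizer_quotient a ha ha1⟩

theorem hyp_of_range {F : Type*} [Field F] [Fintype F]
    (h : Set.range (fun g : G => (Subgroup.centralizer ({g} : Set G)).index) = Set.range (fun g : (Matrix.ProjectiveSpecialLinearGroup (Fin 2) F) => (Subgroup.centralizer ({g} : Set (Matrix.ProjectiveSpecialLinearGroup (Fin 2) F))).index))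
    {S : Set ℕ} (hS : Set.range (fun g : (Matrix.ProjectiveSpecialLinearGroup (Fin 2) F) => (Subgroup.centralizer ({g} : Set (Matrix.ProjectiveSpecialLinearGroup (Fin 2) F))).index) = S)
    {p q U N : ℕ} (ax : SizeAxioms S p q U N) : Hyp G S p q U N :=
  ⟨ax, fun x => hS ▸ h ▸ ⟨x, rfl⟩, fun s hs => by
    rw [← hS, ← h] at hs
    exact hs⟩

/-- The central quotient and the derived group. -/
theorem main {F : Type*} [Field F] [Fintype F]
    (hq : (2 ∣ Fintype.card F ∧ 2 < Fintype.card F) ∨ (¬ 2 ∣ Fintype.card F ∧ 7 ≤ Fintype.card F))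
    (h : Set.range (fun g : G => (Subgroup.centralizer ({g} : Set G)).index) = Set.range (fun g : (Matrix.ProjectiveSpecialLinearGroup (Fin 2) F) => (Subgroup.centralizer ({g} : Set (Matrix.ProjectiveSpecialLinearGroup (Fin 2) F))).index)) :
    Nonempty (G ⧸ Subgroup.center G ≃* Matrix.ProjectiveSpecialLinearGroup (Fin 2) F) ∧
      commutator G ⊓ Subgroup.center G = ⊥ := by
  set q := Fintype.card F with hqdef
  obtain ⟨⟨f, hf⟩, hp, hqpf⟩ := FiniteField.card F (ringChar F)
  have hqp : q = ringChar F ^ f := hqpf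
  have key : ∀ (S : Set ℕ) (I : ℕ), 4 ≤ q →
      (Set.range (fun g : (Matrix.ProjectiveSpecialLinearGroup (Fin 2) F) => (Subgroup.centralizer ({g} : Set (Matrix.ProjectiveSpecialLinearGroup (Fin 2) F))).index) = S) →
      (∀ x : G, idx x ∈ S) → (∀ s ∈ S, ∃ x : G, idx x = s) →
      (∀ s ∈ S, ∀ t ∈ S, s ∣ t → s = 1 ∨ s = t ∨ (s = I ∧ t = 2 * I)) →
      (∀ a b : Matrix.ProjectiveSpecialLinearGroup (Fin 2) F, idx a = I → idx b = I → IsConj a b) →
      (G ⧸ Subgroup.center G ≃* Matrix.ProjectiveSpecialLinearGroup (Fin 2) F) →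
      commutator G ⊓ Subgroup.center G = ⊥ := by
    intro S I h4 hS hsz hsur hpairs hconj φ
    let ψ := φ.toMonoidHom.comp (QuotientGroup.mk' (Subgroup.center G))
    have hψ : Function.Surjective ψ := φ.surjective.comp (QuotientGroup.mk'_surjective _)
    have hker : ψ.ker = Subgroup.center G := by
      ext x
      simp [ψ]
    exact commutator_inf_center ψ hker
      (fun w c l k hl hw hc => commute_of_image ψ hψ hker I hsz (fun a => hS ▸ ⟨a, rfl⟩) hsur
        hpairs hconj (center_eq_bot h4) hl hw hc)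
      (fun x hx => exists_abelian_part hx)
  rcases hq with ⟨h2, h2q⟩ | ⟨hodd, h7⟩
  · have hp2 : ringChar F = 2 :=
      ((Nat.prime_dvd_prime_iff_eq Nat.prime_two hp).mp
        (Nat.prime_two.dvd_of_dvd_pow (hqp ▸ h2))).symm
    have h4 : 4 ≤ q := by omega
    have hqf : q = 2 ^ f := by rw [hqp, hp2]
    have hS := Lib.PSLTwo.ClassSizeValues.even_range (F := F) h2 h4
    have H := hyp_of_range (G := G) h hS (sizeAxioms_even hf hqf h4)
    have hU : q ^ 2 - 1 + 1 = q * q := by
      rw [sq]; have := Nat.mul_pos (show 0 < q by omega) (show 0 < q by omega); omega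
    obtain ⟨φ⟩ := (cc_quotient H).iso_psl_even hU h4 (fun l k r hl hlk hr hr1 hc => by
      obtain ⟨i, e, hs, he, hle⟩ := exists_of_card_U H hl hr hr1 hc
      have hlq : l ∣ q + 1 := by
        rw [hlk]
        refine dvd_pow_self l fun e0 => ?_
        rw [e0, pow_zero] at hlk
        omega
      have hl2 : ¬ l ∣ 2 := fun hd => by
        have := (Nat.prime_dvd_prime_iff_eq hl Nat.prime_two).mp hd
        subst this
        omega
      simp only [Set.mem_insert_iff, Set.mem_singleton_iff] at hs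
      rcases hs with hs | hs | hs | hs
      · have := Nat.eq_one_of_dvd_one (hs ▸ dvd_mul_left q (l ^ i))
        omega
      · have hli : l ^ i = q - 1 := Nat.eq_of_mul_eq_mul_right (by omega) (hs.trans (mul_comm _ _))
        rcases Nat.eq_zero_or_pos i with hi | hi
        · rw [hi, pow_zero] at hli; omega
        · refine hl2 ((Nat.dvd_add_right (hli ▸ dvd_pow_self l hi.ne' : l ∣ q - 1)).mp ?_)
          rw [show q - 1 + 2 = q + 1 by omega]; exact hlq
      · have h3 : 2 ∣ q ^ 2 - 1 := hs ▸ Dvd.dvd.mul_left h2 (l ^ i)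
        have h4' : 2 ∣ q * q := Dvd.dvd.mul_left h2 q
        omega
      · have he1 : e = q - 1 := by
          have e1 : q ^ 2 - 1 = (q - 1) * (q + 1) := Lib.PSLTwo.ClassSizeValues.sq_sub_one
          rw [hs, e1] at he
          refine Nat.eq_of_mul_eq_mul_right (m := q * (q + 1)) (Nat.mul_pos (by omega) (by omega)) ?_
          rw [he]; ring
        subst he1
        exact hl2 ((Nat.dvd_add_right hle).mp (by rw [show q - 1 + 2 = q + 1 by omega]; exact hlq)))
      (F := F) rfl
    exact ⟨⟨φ⟩, key _ 0 h4 hS H.sizes H.surj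
      (fun s hs t ht hd => (dvd_cases_even h4 h2 hs ht hd).imp_right Or.inl)
      (fun a b ha _ => absurd ha Subgroup.index_ne_zero_of_finite) φ⟩
  · have hp2 : ringChar F ≠ 2 := fun e => hodd (by
      rw [hqp, e]; exact dvd_pow_self 2 hf.ne')
    obtain ⟨a, c, hc, hc3, ha, ha4, hac, hqac, hU, hS⟩ := exists_param (F := F) hodd h7
    have H := hyp_of_range (G := G) h hS (sizeAxioms_odd hp hp2 hf hqp hc hc3 ha ha4 hac hU)
    obtain ⟨φ⟩ := (cc_quotient H).iso_psl_odd hp2 hU (by omega) (fun l k r hl hlk hr hr1 hcard => by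
      obtain ⟨i, e, hs, he, hle⟩ := exists_of_card_U H hl hr hr1 hcard
      have hl2 : l = 2 := by
        have h1 : 2 ∣ l ^ k := hlk ▸ (by omega : 2 ∣ q + 1)
        exact ((Nat.prime_dvd_prime_iff_eq Nat.prime_two hl).mp
          (Nat.prime_two.dvd_of_dvd_pow h1)).symm
      subst hl2
      have hq0 : 0 < q := by omega
      have hnc : ¬ c ∣ 2 ^ i := fun hd => by
        obtain ⟨j, -, hj⟩ := (Nat.dvd_prime_pow Nat.prime_two).mp hd
        rcases Nat.eq_zero_or_pos j with hj0 | hj0
        · rw [hj0, pow_zero] at hj; omega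
        · exact hc (hj ▸ dvd_pow_self 2 hj0.ne')
      have hqac' : q.Coprime (a * c) := by
        refine Nat.eq_one_of_dvd_one ?_
        have h1 : Nat.gcd q (a * c) ∣ 2 * (a * c) := Dvd.dvd.mul_left (Nat.gcd_dvd_right _ _) 2
        exact (Nat.dvd_add_right h1).mp (hU ▸ Dvd.dvd.mul_left (Nat.gcd_dvd_left _ _) q)
      simp only [Set.mem_insert_iff, Set.mem_singleton_iff] at hs
      rcases hs with hs | hs | hs | hs | hs
      · have := Nat.eq_one_of_dvd_one (hs ▸ dvd_mul_left q (2 ^ i))
        omega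
      · have := Nat.eq_one_of_dvd_coprimes hqac' dvd_rfl (hs ▸ dvd_mul_left q (2 ^ i))
        omega
      · exact hnc ⟨1, by rw [mul_one]; exact Nat.eq_of_mul_eq_mul_right hq0 (hs.trans (mul_comm _ _))⟩
      · refine hnc ⟨2, Nat.eq_of_mul_eq_mul_right hq0 (hs.trans ?_)⟩
        ring
      · have he1 : e = c := by
          rw [hs] at he
          refine Nat.eq_of_mul_eq_mul_right (m := q * a) (Nat.mul_pos hq0 (by omega)) ?_
          rw [he]; ring
        exact hc (he1 ▸ hle)) (F := F) rfl
    exact ⟨⟨φ⟩, key _ (q * c) (by omega) hS H.sizes H.surj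
      (fun s hs t ht hd => dvd_cases_odd hc hc3 ha ha4 hac hU hs ht hd)
      (fun x y hx hy => isConj_of_small hodd h7 hqac hac hU hx hy) φ⟩

/-- The direct product decomposition. -/
theorem direct_product {F : Type*} [Field F] [Fintype F]
    (hq : (2 ∣ Fintype.card F ∧ 2 < Fintype.card F) ∨ (¬ 2 ∣ Fintype.card F ∧ 7 ≤ Fintype.card F))
    (h : Set.range (fun g : G => (Subgroup.centralizer ({g} : Set G)).index) = Set.range (fun g : (Matrix.ProjectiveSpecialLinearGroup (Fin 2) F) => (Subgroup.centralizer ({g} : Set (Matrix.ProjectiveSpecialLinearGroup (Fin 2) F))).index)) :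
    ∃ N A : Subgroup G, N.Normal ∧ A ≤ Subgroup.center G ∧ N ⊓ A = ⊥ ∧ N ⊔ A = ⊤ ∧
      Nonempty (N ≃* Matrix.ProjectiveSpecialLinearGroup (Fin 2) F) := by
  obtain ⟨⟨φ⟩, hint⟩ := main hq h
  have h4 : 4 ≤ Fintype.card F := by rcases hq with ⟨h1, h2⟩ | ⟨-, h2⟩ <;> omega
  have : IsSimpleGroup (Matrix.ProjectiveSpecialLinearGroup (Fin 2) F) :=
    Linear.isSimpleGroup_PSL le_rfl fun _ => by rwa [Nat.card_eq_fintype_card]
  let ψ := φ.toMonoidHom.comp (QuotientGroup.mk' (Subgroup.center G))
  have hψ : Function.Surjective ψ := φ.surjective.comp (QuotientGroup.mk'_surjective _)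
  have hker : ψ.ker = Subgroup.center G := by
    ext x
    simp [ψ]
  have hperf : (commutator G).map ψ = ⊤ := by
    rw [commutator_def, Subgroup.map_commutator, Subgroup.map_top_of_surjective ψ hψ]
    refine (Subgroup.Normal.eq_bot_or_eq_top inferInstance).resolve_left fun hb => ?_
    have h1 : Subgroup.center (Matrix.ProjectiveSpecialLinearGroup (Fin 2) F) = ⊤ := by
      rw [eq_top_iff]
      intro x _
      rw [Subgroup.commutator_eq_bot_iff_le_centralizer] at hb
      exact Subgroup.mem_center_iff.mpr fun y =>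
        Subgroup.mem_centralizer_iff.mp (hb (Subgroup.mem_top x)) y (Subgroup.mem_top y)
    rw [center_eq_bot h4] at h1
    exact bot_ne_top h1
  refine ⟨commutator G, Subgroup.center G, inferInstance, le_rfl, hint, ?_,
    ⟨MulEquiv.ofBijective (ψ.comp (commutator G).subtype) ⟨?_, ?_⟩⟩⟩
  · rw [eq_top_iff]
    intro g _
    obtain ⟨n, hn, hne⟩ : ψ g ∈ (commutator G).map ψ := hperf ▸ Subgroup.mem_top _
    have hz : n⁻¹ * g ∈ Subgroup.center G := by
      rw [← hker, MonoidHom.mem_ker, map_mul, map_inv, hne, inv_mul_cancel]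
    have := Subgroup.mul_mem_sup hn hz
    rwa [mul_inv_cancel_left] at this
  · rw [← MonoidHom.ker_eq_bot_iff, eq_bot_iff]
    intro x hx
    have hxZ : (x : G) ∈ Subgroup.center G := hker ▸ (show (x : G) ∈ ψ.ker from hx)
    have h1 : (x : G) ∈ commutator G ⊓ Subgroup.center G := ⟨x.2, hxZ⟩
    rw [hint, Subgroup.mem_bot] at h1
    exact Subgroup.mem_bot.mpr (Subtype.ext h1)
  · intro y
    obtain ⟨n, hn, hne⟩ : y ∈ (commutator G).map ψ := hperf ▸ Subgroup.mem_top _
    exact ⟨⟨n, hn⟩, hne⟩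

end Cfsg.Agent.Lib.PSLClassSize64
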